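import Cfsg.Agent.Lib.CoTwoType.CaseR.NotCore

/-
Two commuting conjugates outside each other's core; the commuting case (helper33).

* `Conf z a` : the configuration, symmetric
* `Conf.rad` : the centraliser in a core has order 64 and its image a radical of order two
* `Conf.commuting_false` : the case where `a` commutes with the fixed element is impossible
-/

set_option autoImplicit false
set_option linter.style.haveILetI false

namespace Cfsg.Agent.CoTwoType

open Cfsg.Agent.Multiplier.Sp6 CaseR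

universe u

variable {G : Type u} [Group G]

/-- Two settings with fixed elements. -/
structure Conf (z a : G) where
  /-- The first setting. -/
  S : Setup z
  /-- The second setting. -/
  S2 : Setup a
  /-- The first fixed element. -/
  x : G
  /-- The second fixed element. -/
  x2 : G
  hx : x ∈ S.Q
  hx2 : x2 ∈ S2.Q
  sqx : x * x = z
  sqx2 : x2 * x2 = a
  fix : ∀ c, Commute c z → c * x * c⁻¹ = x ∨ c * x * c⁻¹ = x * z
  fix2 : ∀ c, Commute c a → c * x2 * c⁻¹ = x2 ∨ c * x2 * c⁻¹ = x2 * a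
  comm : Commute a z
  ne : a ≠ z
  notMem : a ∉ S.Q
  notMem2 : z ∉ S2.Q

namespace Conf

variable {z a : G} (K : Conf z a)

include K

/-- The symmetry. -/
def symm : Conf a z :=
  ⟨K.S2, K.S, K.x2, K.x, K.hx2, K.hx, K.sqx2, K.sqx, K.fix2, K.fix, K.comm.symm, K.ne.symm, K.notMem2,
    K.notMem⟩

theorem sq_comm {d : G} (hd : Commute d z) : Commute (d * d) K.x :=
  sq_fix (K.S.le_cent _ K.hx) K.S.zz K.fix hd

theorem comm_comm {d e : G} (hd : Commute d z) (he : Commute e z) : Commute (d * e * d⁻¹ * e⁻¹) K.x :=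
  comm_fix (K.S.le_cent _ K.hx) K.S.zz K.fix hd he

theorem iff_symm : Commute a K.x ↔ Commute z K.x2 := by
  constructor
  · intro h
    have := K.symm.sq_comm (d := K.x) h.symm
    rw [K.sqx] at this
    exact this
  · intro h
    have := K.sq_comm (d := K.x2) h.symm
    rw [K.sqx2] at this
    exact this

/-- The centraliser in the core. -/
abbrev R : Subgroup G := K.S.Q ⊓ Subgroup.centralizer ({a} : Set G)

/-- Its vectors. -/
noncomputable abbrev U : AddSubgroup K.S.Vz := K.S.img K.R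

theorem z_mem_R : z ∈ K.R := K.S.z_mem_cent K.comm

theorem mem_R {r : G} : r ∈ K.R ↔ r ∈ K.S.Q ∧ Commute r a :=
  and_congr Iff.rfl mem_cent_iff

theorem card_R : Nat.card K.R = 2 * Nat.card K.U := K.S.card_img inf_le_left K.z_mem_R

theorem rad [Finite G] (h : Commute a K.x) :
    Nat.card K.R = 64 ∧ ∃ e, Rad K.S.space K.U e := by
  have hy : Commute K.x2 z := (K.iff_symm.1 h).symm
  have hya : Commute K.x2 a := K.S2.le_cent _ K.hx2
  have hyu : ∀ r ∈ K.R, Commute K.x2 r := fun r hr => by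
    obtain ⟨hrQ, hra⟩ := K.mem_R.1 hr
    rcases K.fix2 r hra with e | e
    · exact (conj_id_iff.1 e).symm
    · exfalso
      have h1 : r * (K.x2 * r⁻¹ * K.x2⁻¹) ∈ K.S.Q := mul_mem hrQ (K.S.conj_mem _ hy _ (inv_mem hrQ))
      rw [← mul_assoc, ← mul_assoc, e] at h1
      have h2 : K.x2 * a * K.x2⁻¹ = a := conj_id_iff.2 hya
      rw [h2] at h1
      exact K.notMem h1
  set g := K.S.act K.x2
  have hg : g ∈ K.S.space.isom := K.S.act_isom hy
  have hgg : g * g = K.S.act a := (K.S.act_mul hy hy).symm.trans (congrArg K.S.act K.sqx2)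
  have hgga : K.S.act a ∈ K.S.space.isom := K.S.act_isom K.comm
  have h4 : ∀ v, g (g (g (g v))) = v := fun v => by
    show (g * g) ((g * g) v) = v
    rw [hgg, K.S.act_act K.comm, K.S2.zz, K.S.act_one]
    rfl
  have h2 : ∃ v, g (g v) ≠ v := by
    by_contra hc
    push Not at hc
    exact K.notMem ((K.S.act_eq_one K.comm).1 (hgg ▸ Equiv.ext hc))
  have hU : K.U ≤ K.S.space.fix hg := fun v hv => by
    obtain ⟨r, hr, hrQ, rfl⟩ := hv
    exact K.S.act_fix hy hrQ (hyu r hr)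
  have hF : Nat.card (K.S.space.fix (mul_mem hg hg)) ≤ 2 * Nat.card K.U := by
    have : K.S.space.fix (mul_mem hg hg) = K.S.space.fix hgga := by
      ext v
      show (g * g) v = v ↔ K.S.act a v = v
      rw [hgg]
    rw [this]
    exact K.S.card_fix_le K.comm
  obtain ⟨hc, hp, -, e, he, hm⟩ := K.S.space.four_fixed hg h4 h2 (mul_mem hg hg) K.U hU hF
  exact ⟨by rw [K.card_R, hc], e, hc, hp, he, hm⟩

/-- The meet of the cores. -/
abbrev E : Subgroup G := K.S.Q ⊓ K.S2.Q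

theorem E_le : K.E ≤ K.R := fun e he => K.mem_R.2 ⟨he.1, K.S2.le_cent e he.2⟩

theorem E_central {e : G} (he : e ∈ K.E) {r : G} (hr : r ∈ K.R) : Commute e r := by
  rcases K.S.comm e he.1 r hr.1 with h | h
  · exact h
  · exfalso
    refine K.notMem2 ?_
    have h1 : e * (r * e⁻¹ * r⁻¹) ∈ K.S2.Q :=
      mul_mem he.2 (K.S2.conj_mem r (K.mem_R.1 hr).2 _ (inv_mem he.2))
    rwa [← mul_assoc, ← mul_assoc, h, mul_assoc r e z, K.S.z_comm he.1, ← mul_assoc, mul_inv_cancel_right,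
      ← K.S.z_comm hr.1 |>.symm, mul_inv_cancel_right] at h1

theorem E_vc {e : G} (he : e ∈ K.E) : K.S.vc e ∈ K.U ∧ K.S.vc e ∈ K.S.space.perp K.U :=
  ⟨⟨e, K.E_le he, he.1, rfl⟩, fun v hv => by
    obtain ⟨r, hr, hrQ, rfl⟩ := hv
    exact (K.S.bv_eq_zero he.1 hrQ).2 (K.E_central he hr)⟩

theorem E_inj {e f : G} (he : e ∈ K.E) (hf : f ∈ K.E) (h : K.S.vc e = K.S.vc f) : e = f := by
  refine ((K.S.vc_eq he.1 hf.1).1 h).resolve_right fun h' => K.notMem2 ?_
  rw [h'] at he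
  simpa using K.S2.Q.mul_mem (K.S2.Q.inv_mem hf.2) he.2

theorem card_E [Finite G] {e0 : K.S.Vz} (Ra : Rad K.S.space K.U e0) : Nat.card K.E ≤ 2 := by
  rw [← K.S.space.card_pr2 Ra.ne]
  haveI := K.S.space.fin
  exact Nat.card_le_card_of_injective
    (fun e : K.E => (⟨K.S.vc e, (Ra.mem _).1 (K.E_vc e.2)⟩ : K.S.space.pr2 e0))
    fun e f h => Subtype.ext (K.E_inj e.2 f.2 (congrArg Subtype.val h))

/-- The commuting case is impossible. -/
theorem commuting_false [Finite G] (h : Commute a K.x) : False := by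
  obtain ⟨-, e0, Ra⟩ := K.rad h
  obtain ⟨hR2, e1, Ra2⟩ := K.symm.rad (K.iff_symm.1 h)
  let R2 : Subgroup G := K.symm.R
  have hR2z : ∀ r ∈ R2, Commute r z := fun r hr => (K.symm.mem_R.1 hr).2
  have hR2Q : ∀ r ∈ R2, r ∈ K.S2.Q := fun r hr => (K.symm.mem_R.1 hr).1
  have hR2E : R2 ⊓ K.S.Q = K.E := by
    ext r
    exact ⟨fun hr => ⟨hr.2, hR2Q r hr.1⟩, fun hr => ⟨K.symm.mem_R.2 ⟨hr.2, K.S.le_cent r hr.1⟩, hr.1⟩⟩
  set P := (K.S.actHom hR2z).range
  have hPle : P ≤ K.S.space.isom := by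
    rintro _ ⟨r, rfl⟩
    exact K.S.act_isom (hR2z r r.2)
  have hcard : Nat.card P * Nat.card K.E = 64 := by
    have h0 := K.S.card_image hR2z
    rw [hR2E, show Nat.card R2 = 64 from hR2] at h0
    exact h0
  have hmove : ∀ r ∈ R2, ∀ u ∈ K.R, r * u * r⁻¹ * u⁻¹ ∈ K.E := by
    intro r hr u hu
    obtain ⟨huQ, hua⟩ := K.mem_R.1 hu
    refine ⟨K.S.Q.mul_mem (K.S.conj_mem r (hR2z r hr) u huQ) (K.S.Q.inv_mem huQ), ?_⟩
    have := mul_mem (hR2Q r hr) (K.S2.conj_mem u hua _ (inv_mem (hR2Q r hr)))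
    simpa [mul_assoc] using this
  by_cases hE1 : Nat.card K.E = 1
  · have hP : ∀ g ∈ P, ∀ v ∈ K.U, g v = v := by
      rintro _ ⟨r, rfl⟩ v ⟨u, hu, huQ, rfl⟩
      refine K.S.act_fix (hR2z r r.2) huQ (conj_id_iff.1 ?_)
      have hb := Subgroup.card_eq_one.1 hE1
      have h1 := hmove r r.2 u hu
      rw [hb, Subgroup.mem_bot, mul_inv_eq_one] at h1
      exact h1
    have := Ra.card_fixers_le P hPle hP
    rw [hE1, mul_one] at hcard
    omega
  have hE : Nat.card K.E = 2 := by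
    have := K.card_E Ra
    have : 0 < Nat.card K.E := Nat.card_pos
    omega
  obtain ⟨⟨e, he⟩, hne⟩ : ∃ e : K.E, e ≠ 1 := by
    obtain ⟨p, q, hpq, -⟩ := Nat.card_eq_two_iff.1 hE
    by_cases hp : p = 1
    · exact ⟨q, fun hq => hpq (hp.trans hq.symm)⟩
    · exact ⟨p, hp⟩
  have hne' : e ≠ 1 := fun hc => hne (Subtype.ext hc)
  have huniq : ∀ f ∈ K.E, f = 1 ∨ f = e := fun f hf => by
    obtain ⟨c, -, hcu⟩ := (Nat.card_eq_two_iff' (1 : K.E)).1 hE
    by_contra hc
    push Not at hc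
    exact hc.2 (congrArg Subtype.val ((hcu ⟨f, hf⟩ fun hh => hc.1 (congrArg Subtype.val hh)).trans
      (hcu ⟨e, he⟩ hne).symm))
  have hve : K.S.vc e = e0 := ((Ra.mem _).1 (K.E_vc he)).resolve_left fun hc =>
    hne' (K.E_inj he (one_mem _) (hc.trans K.S.vc_one.symm))
  have heE2 : e ∈ K.symm.E := ⟨he.2, he.1⟩
  have hve2 : K.S2.vc e = e1 := ((Ra2.mem _).1 (K.symm.E_vc heE2)).resolve_left fun hc =>
    hne' (K.symm.E_inj heE2 (one_mem _) (hc.trans K.S2.vc_one.symm))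
  have hfix : ∀ g ∈ P, g e0 = e0 ∧ ∀ v ∈ K.U, g v = v ∨ g v = v + e0 := by
    rintro _ ⟨⟨r, hr⟩, rfl⟩
    refine ⟨?_, fun v ⟨u, hu, huQ, hv⟩ => ?_⟩
    · rw [← hve]
      exact K.S.act_fix (hR2z r hr) he.1 (K.symm.E_central heE2 hr).symm
    · subst hv
      show K.S.act r _ = _ ∨ K.S.act r _ = _
      rw [K.S.act_vc (hR2z r hr) huQ]
      rcases huniq _ (hmove r hr u hu) with h1 | h1
      · left; rw [mul_inv_eq_one.1 h1]
      · right
        rw [show r * u * r⁻¹ = e * u by rw [← h1]; group, K.S.vc_mul he.1 huQ, hve, add_comm]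
  have hP32 : Nat.card P = 32 := by rw [hE] at hcard; omega
  obtain ⟨A, hA, hidx⟩ := Ra.exists_abelian_half P hPle hP32 hfix
  have hPc : ∀ p : P, ∃ r ∈ R2, K.S.act r = p.1 := fun ⟨_, r, rfl⟩ => ⟨r, r.2, rfl⟩
  have hactc : ∀ r ∈ R2, ∀ s ∈ R2, K.S.act (r * s * r⁻¹ * s⁻¹) =
      K.S.act r * K.S.act s * (K.S.act r)⁻¹ * (K.S.act s)⁻¹ := fun r hr s hs => by
    have := map_commutatorElement (K.S.actHom hR2z) ⟨r, hr⟩ ⟨s, hs⟩
    rw [commutatorElement_def, commutatorElement_def] at this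
    exact this
  have hca : ∀ p : P, p.1 * K.S.act a = K.S.act a * p.1 := fun p => by
    obtain ⟨r, hr, hrp⟩ := hPc p
    rw [← hrp, ← K.S.act_mul (hR2z r hr) K.comm, ← K.S.act_mul K.comm (hR2z r hr),
      (K.S2.le_cent r (hR2Q r hr)).eq]
  refine false_of_half (P := P) (fun p q => ?_) ?_ (by omega) A hA hidx
  · obtain ⟨r, hr, hrp⟩ := hPc p
    obtain ⟨s, hs, hsq⟩ := hPc q
    refine Subgroup.mem_center_iff.2 fun m => Subtype.ext ?_
    show m.1 * (p.1 * q.1 * p.1⁻¹ * q.1⁻¹) = p.1 * q.1 * p.1⁻¹ * q.1⁻¹ * m.1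
    rw [← hrp, ← hsq, ← hactc r hr s hs]
    rcases K.S2.comm r (hR2Q r hr) s (hR2Q s hs) with h1 | h1
    · rw [h1, show s * r * r⁻¹ * s⁻¹ = 1 by group, K.S.act_one]; simp
    · rw [h1, mul_assoc s r a, K.S2.z_comm (hR2Q r hr), ← mul_assoc, mul_inv_cancel_right,
        K.S2.z_comm (hR2Q s hs), mul_inv_cancel_right]
      exact hca m
  · have hcen : ∀ p : P, p ∈ Subgroup.center P → p.1 = 1 ∨ p.1 = K.S.act a := by
      intro p hp
      obtain ⟨r, hr, hrp⟩ := hPc p
      have hcr : K.S2.vc r ∈ K.symm.U ∧ K.S2.vc r ∈ K.S2.space.perp K.symm.U := by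
        refine ⟨⟨r, hr, hR2Q r hr, rfl⟩, fun v ⟨s, hs, hsQ, hv⟩ => ?_⟩
        subst hv
        refine (K.S2.bv_eq_zero (hR2Q r hr) hsQ).2 ?_
        rcases K.S2.comm r (hR2Q r hr) s hsQ with h1 | h1
        · exact h1
        · exfalso
          refine K.notMem ((K.S.act_eq_one K.comm).1 ?_)
          have h2 := hactc r hr s hs
          rw [h1, mul_assoc s r a, K.S2.z_comm (hR2Q r hr), ← mul_assoc, mul_inv_cancel_right,
            K.S2.z_comm hsQ, mul_inv_cancel_right, hrp] at h2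
          have h3 := congrArg Subtype.val
            (Subgroup.mem_center_iff.1 hp ⟨K.S.act s, ⟨⟨s, hs⟩, rfl⟩⟩)
          simp only [Subgroup.coe_mul] at h3
          rw [h2, ← h3]
          group
      rw [← hrp]
      rcases (Ra2.mem _).1 hcr with h1 | h1
      · rcases (K.S2.vc_eq_zero (hR2Q r hr)).1 h1 with h2 | h2
        · left; rw [h2, K.S.act_one]
        · right; rw [h2]
      · rcases (K.S2.vc_eq (hR2Q r hr) he.2).1 (h1.trans hve2.symm) with h2 | h2
        · left; rw [h2]; exact (K.S.act_eq_one (K.S.le_cent e he.1)).2 he.1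
        · right
          rw [h2, K.S.act_mul (K.S.le_cent e he.1) K.comm, (K.S.act_eq_one (K.S.le_cent e he.1)).2 he.1,
            one_mul]
    classical
    let t : Finset (Equiv.Perm K.S.Vz) := {1, K.S.act a}
    have h1 := Nat.card_le_card_of_injective
      (fun p : Subgroup.center P => (⟨p.1.1, by
        simp only [t, Finset.mem_insert, Finset.mem_singleton]; exact hcen p.1 p.2⟩ : t))
      (fun p q hpq => Subtype.ext (Subtype.ext (congrArg Subtype.val hpq :)))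
    rw [Nat.card_eq_finsetCard] at h1
    exact h1.trans Finset.card_le_two

end Conf

end Cfsg.Agent.CoTwoType
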