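import Cfsg.Agent.Lib.CoTwoType.Setup

/-
The setting at a conjugate involution (helper33).

* `Setup.centEquiv`, `Setup.conj`, `mem_conj_Q`
-/

set_option autoImplicit false
set_option linter.style.haveILetI false

namespace Cfsg.Agent.CoTwoType

open Cfsg.Agent.Multiplier.Sp6

universe u

variable {G : Type u} [Group G] {z : G}

theorem mem_cent_iff {z c : G} : c ∈ Subgroup.centralizer ({z} : Set G) ↔ Commute c z := by
  rw [Subgroup.mem_centralizer_singleton_iff]; exact Iff.rfl

theorem commute_up (g : G) {a b : G} (h : Commute a b) : Commute (g * a * g⁻¹) (g * b * g⁻¹) :=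
  h.map (MulAut.conj g).toMonoidHom

theorem commute_down (g : G) {a b : G} (h : Commute a (g * b * g⁻¹)) : Commute (g⁻¹ * a * g) b := by
  have := commute_up g⁻¹ h
  simpa [mul_assoc] using this

/-- The centralisers of conjugate elements. -/
def centEquiv (z g : G) :
    ↥(Subgroup.centralizer ({g * z * g⁻¹} : Set G)) ≃* ↥(Subgroup.centralizer ({z} : Set G)) where
  toFun c := ⟨g⁻¹ * c * g, mem_cent_iff.2 (commute_down g (mem_cent_iff.1 c.2))⟩
  invFun c := ⟨g * c * g⁻¹, mem_cent_iff.2 (commute_up g (mem_cent_iff.1 c.2))⟩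
  left_inv c := Subtype.ext (by simp [mul_assoc])
  right_inv c := Subtype.ext (by simp [mul_assoc])
  map_mul' c d := Subtype.ext (by simp [mul_assoc])

theorem mem_conj_Q {Q : Subgroup G} {g x : G} :
    x ∈ Q.map (MulAut.conj g).toMonoidHom ↔ g⁻¹ * x * g ∈ Q := by
  constructor
  · rintro ⟨q, hq, rfl⟩; simpa [mul_assoc] using hq
  · exact fun h => ⟨_, h, by simp [mul_assoc]⟩

theorem conj_eq_mul {g a w : G} (h : g⁻¹ * a * g = w) : a = g * w * g⁻¹ := by rw [← h]; group

/-- The setting at a conjugate. -/
def Setup.conj (S : Setup z) (g : G) : Setup (g * z * g⁻¹) where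
  Q := S.Q.map (MulAut.conj g).toMonoidHom
  φ := S.φ.comp (centEquiv z g).toMonoidHom
  z_ord := by
    rw [← S.z_ord]
    exact (MulAut.conj g).orderOf_eq z
  card_Q := by
    rw [Subgroup.card_map_of_injective (MulAut.conj g).injective]; exact S.card_Q
  pcore := by
    rw [← Cores.pCore_map_mulEquiv (centEquiv z g).symm 2, Subgroup.map_map, ← S.pcore, Subgroup.map_map]
    rfl
  z_mem := ⟨z, S.z_mem, rfl⟩
  le_cent x hx := by
    obtain ⟨q, hq, rfl⟩ := hx
    exact commute_up g (S.le_cent q hq)
  conj_mem c hc x hx := by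
    rw [mem_conj_Q] at hx ⊢
    simpa [mul_assoc] using S.conj_mem _ (commute_down g hc) _ hx
  sq x hx := by
    obtain ⟨q, hq, rfl⟩ := hx
    rcases S.sq q hq with h | h
    · left; simpa [mul_assoc] using congrArg (fun t => g * t * g⁻¹) h
    · right; simpa [mul_assoc] using congrArg (fun t => g * t * g⁻¹) h
  comm x hx y hy := by
    obtain ⟨q, hq, rfl⟩ := hx
    obtain ⟨r, hr, rfl⟩ := hy
    rcases S.comm q hq r hr with h | h
    · left; simpa [mul_assoc] using congrArg (fun t => g * t * g⁻¹) h
    · right; simpa [mul_assoc] using congrArg (fun t => g * t * g⁻¹) h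
  centre x hx hxy := by
    obtain ⟨q, hq, rfl⟩ := hx
    rcases S.centre q hq fun r hr => (MulAut.conj g).injective (by
        rw [map_mul, map_mul]; exact hxy _ ⟨r, hr, rfl⟩) with h | h
    · left; simp [h]
    · right; simp [h]
  self c hc hcx := by
    rw [mem_conj_Q]
    refine S.self _ (commute_down g hc) fun q hq => ?_
    have := congrArg (fun t => g⁻¹ * t * g) (hcx _ ⟨q, hq, rfl⟩)
    simpa [mul_assoc] using this
  φ_surj := S.φ_surj.comp (centEquiv z g).surjective
  φ_ker c := by
    rw [mem_conj_Q]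
    exact S.φ_ker (centEquiv z g c)
  faithful c hc hcx := by
    rw [mem_conj_Q]
    refine S.faithful _ (commute_down g hc) fun q hq => ?_
    rcases hcx _ ⟨q, hq, rfl⟩ with h | h
    · left
      have := congrArg (fun t => g⁻¹ * t * g) h
      simpa [mul_assoc] using this
    · right
      have := congrArg (fun t => g⁻¹ * t * g) h
      simpa [mul_assoc] using this

end Cfsg.Agent.CoTwoType
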