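import Cfsg.Agent.Lib.CoTwoType.CaseR.Refl

/-
Isometries fixing the fixed space of an isometry of order four (helper33).

* `perp_perp` ; `Rad` : a subgroup of order 32 whose radical has order two
* `Rad.card_fixers_le` : its pointwise fixer has at most 48 elements
* `Rad.exists_abelian_half` : a group of order 32 trivial on it modulo the radical has a large abelian subgroup
* `false_of_half` : which is impossible when the centre has order two
-/

set_option autoImplicit false
set_option linter.style.haveILetI false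

namespace Cfsg.Agent.CoTwoType.CaseR

/-- A finite group of order at least 16 with centre of order at most two containing all commutators has no
abelian subgroup of index at most two. -/
theorem false_of_half {P : Type*} [Group P] [Finite P] (hcomm : ∀ a b : P, a * b * a⁻¹ * b⁻¹ ∈ Subgroup.center P)
    (hZ : Nat.card (Subgroup.center P) ≤ 2) (h16 : 16 ≤ Nat.card P) (A : Subgroup P)
    (hA : ∀ a ∈ A, ∀ b ∈ A, a * b = b * a) (hidx : Nat.card P ≤ 2 * Nat.card A) : False := by
  have hne : A ≠ ⊤ := fun h => by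
    have : (⊤ : Subgroup P) ≤ Subgroup.center P := fun a _ => Subgroup.mem_center_iff.2 fun b =>
      hA b (h ▸ Subgroup.mem_top b) a (h ▸ Subgroup.mem_top a)
    have := Subgroup.card_le_of_le this
    rw [Subgroup.card_top] at this
    omega
  obtain ⟨p, -, hp⟩ := SetLike.exists_of_lt (lt_top_iff_ne_top.2 hne)
  have h2 : A.index = 2 := by
    have h1 := A.card_mul_index
    have h3 : A.index ≠ 1 := fun h => hne (Subgroup.index_eq_one.1 h)
    have h4 : 0 < A.index := Nat.pos_of_ne_zero Subgroup.FiniteIndex.index_ne_zero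
    have hA0 : 0 < Nat.card A := Nat.card_pos
    by_contra h5
    nlinarith [show 3 ≤ A.index by omega]
  let f : A →* Subgroup.center P :=
    { toFun := fun a => ⟨(a : P) * p * (a : P)⁻¹ * p⁻¹, hcomm _ _⟩
      map_one' := Subtype.ext (by simp)
      map_mul' := fun a b => Subtype.ext (by
        have hb := Subgroup.mem_center_iff.1 (hcomm (b : P) p)
        show (a : P) * b * p * ((a : P) * b)⁻¹ * p⁻¹ = (a : P) * p * (a : P)⁻¹ * p⁻¹ * (b * p * (b : P)⁻¹ * p⁻¹)
        rw [hb ((a : P) * p * (a : P)⁻¹ * p⁻¹)]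
        calc (a : P) * b * p * ((a : P) * b)⁻¹ * p⁻¹
            = (a : P) * (b * p * (b : P)⁻¹ * p⁻¹) * (a : P)⁻¹ * ((a : P) * p * (a : P)⁻¹ * p⁻¹) := by group
          _ = (b * p * (b : P)⁻¹ * p⁻¹) * ((a : P) * p * (a : P)⁻¹ * p⁻¹) := by
            rw [hb (a : P), mul_inv_cancel_right]) }
  have hker : ∀ a : A, a ∈ f.ker → (a : P) ∈ Subgroup.center P := fun a ha => by
    have hap : (a : P) * p = p * a := by
      have e : (a : P) * p * (a : P)⁻¹ * p⁻¹ = 1 := congrArg Subtype.val ha
      rw [mul_inv_eq_one, mul_inv_eq_iff_eq_mul] at e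
      exact e
    refine Subgroup.mem_center_iff.2 fun x => ?_
    by_cases hx : x ∈ A
    · exact hA x hx a a.2
    · have hpx : p⁻¹ * x ∈ A := by
        rw [Subgroup.mul_mem_iff_of_index_two h2, inv_mem_iff]
        exact iff_of_false hp hx
      calc x * a = p * ((p⁻¹ * x) * a) := by group
        _ = p * (a * (p⁻¹ * x)) := by rw [hA _ hpx a a.2]
        _ = (p * a) * (p⁻¹ * x) := by group
        _ = a * x := by rw [← hap]; group
  have hk : Nat.card f.ker ≤ 2 :=
    (Nat.card_le_card_of_injective (fun a : f.ker => (⟨(a.1 : P), hker a.1 a.2⟩ : Subgroup.center P))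
      (fun a b e => Subtype.ext (Subtype.ext (congrArg Subtype.val e :)))).trans hZ
  have hr : Nat.card f.range ≤ 2 := (Subgroup.card_le_card_group _).trans hZ
  have h := f.ker.card_mul_index
  rw [Subgroup.index_ker] at h
  nlinarith

variable {V : Type*} [AddCommGroup V] (S : Space V)

theorem Space.perp_perp (A : AddSubgroup V) : S.perp (S.perp A) = A := by
  haveI := S.fin
  have hle : A ≤ S.perp (S.perp A) := fun a ha b hb => by rw [S.β_comm]; exact hb a ha
  refine (AddSubgroup.eq_of_le_of_card_ge hle ?_).symm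
  have h1 := S.card_perp A
  have h2 := S.card_perp (S.perp A)
  rw [← h1, mul_comm (Nat.card A)] at h2
  exact (Nat.eq_of_mul_eq_mul_left (S.card_pos _) h2).le

/-- A subgroup of order 32 with a radical of order two. -/
structure Rad (U : AddSubgroup V) (e : V) : Prop where
  card : Nat.card U = 32
  perp_card : Nat.card (S.perp U) = 8
  ne : e ≠ 0
  mem : ∀ v, (v ∈ U ∧ v ∈ S.perp U) ↔ (v = 0 ∨ v = e)

namespace Rad

open Space

variable {S} {U : AddSubgroup V} {e : V} (R : Rad S U e)

include R

theorem e_mem : e ∈ U := ((R.mem e).2 (Or.inr rfl)).1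

theorem e_perp : e ∈ S.perp U := ((R.mem e).2 (Or.inr rfl)).2

theorem sup_eq : U ⊔ S.perp U = S.perp1 e := by
  rw [← S.perp_perp (U ⊔ S.perp U), ← S.perp_pr2]
  congr 1
  ext v
  constructor
  · intro hv
    have h1 : v ∈ S.perp U := fun a ha => hv a (AddSubgroup.mem_sup_left ha)
    have h2 : v ∈ S.perp (S.perp U) := fun a ha => hv a (AddSubgroup.mem_sup_right ha)
    rw [S.perp_perp] at h2
    exact (R.mem v).1 ⟨h2, h1⟩
  · intro hv a ha
    obtain ⟨u, hu, w, hw, rfl⟩ := AddSubgroup.mem_sup.1 ha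
    obtain ⟨h1, h2⟩ := (R.mem v).2 hv
    rw [S.β_add', h2 u hu, S.β_comm, hw v h1, add_zero]

theorem exists_frame : ∃ f h, f ∈ S.perp U ∧ h ∈ S.perp U ∧ S.β f h = 1 ∧ ∀ w ∈ S.perp U,
    ∃ i, w = sm i e + sm (S.β w h) f + sm (S.β w f) h := by
  haveI := S.fin
  obtain ⟨f, hf, hfn⟩ := S.exists_notMem (S.perp U) [0, e] (by rw [R.perp_card]; norm_num)
  simp only [List.mem_cons, List.not_mem_nil, or_false] at hfn
  obtain ⟨h, hh, hfh⟩ : ∃ h ∈ S.perp U, S.β f h = 1 := by
    by_contra hc
    push Not at hc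
    have : f ∈ S.perp (S.perp U) := fun a ha => (zmod2 _).resolve_right (hc a ha)
    rw [S.perp_perp] at this
    exact hfn ((R.mem f).1 ⟨this, hf⟩)
  refine ⟨f, h, hf, hh, hfh, fun w hw => ?_⟩
  have hhf : S.β h f = 1 := by rw [S.β_comm]; exact hfh
  have hec : ∀ a ∈ S.perp U, S.β e a = 0 := fun a ha => by rw [S.β_comm]; exact ha e R.e_mem
  let φ : ZMod 2 × ZMod 2 × ZMod 2 → S.perp U := fun t => ⟨sm t.1 e + sm t.2.1 f + sm t.2.2 h,
    add_mem (add_mem (by rcases zmod2 t.1 with a | a <;> rw [a]; · rw [sm_zero']; exact zero_mem _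
                         · rw [sm_one]; exact R.e_perp)
      (by rcases zmod2 t.2.1 with a | a <;> rw [a]; · rw [sm_zero']; exact zero_mem _
          · rw [sm_one]; exact hf))
      (by rcases zmod2 t.2.2 with a | a <;> rw [a]; · rw [sm_zero']; exact zero_mem _
          · rw [sm_one]; exact hh)⟩
  have hb1 : ∀ t, S.β (φ t : V) h = t.2.1 := fun t => by
    simp only [φ, S.β_add, S.β_sm, hec h hh, hfh, S.β_self, mul_one, mul_zero, add_zero, zero_add]
  have hb2 : ∀ t, S.β (φ t : V) f = t.2.2 := fun t => by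
    simp only [φ, S.β_add, S.β_sm, hec f hf, hhf, S.β_self, mul_one, mul_zero, add_zero, zero_add]
  have hinj : Function.Injective φ := by
    rintro ⟨i, j, k⟩ ⟨i', j', k'⟩ he
    have h1 : j = j' := by
      have e0 := congrArg (fun s : S.perp U => S.β (s : V) h) he
      simpa only [hb1] using e0
    have h2 : k = k' := by
      have e0 := congrArg (fun s : S.perp U => S.β (s : V) f) he
      simpa only [hb2] using e0
    subst h1 h2
    have h3 := congrArg Subtype.val he
    simp only [φ] at h3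
    have h4 := add_right_cancel (add_right_cancel h3)
    rcases zmod2 i with rfl | rfl <;> rcases zmod2 i' with rfl | rfl <;>
      first
      | rfl
      | (simp only [sm_zero', sm_one] at h4; exact absurd h4 R.ne)
      | (simp only [sm_zero', sm_one] at h4; exact absurd h4.symm R.ne)
  have hbij : Function.Bijective φ := (Nat.bijective_iff_injective_and_card _).2 ⟨hinj, by
    rw [R.perp_card]; simp⟩
  obtain ⟨t, ht⟩ := hbij.2 ⟨w, hw⟩
  have hwv : w = (φ t : V) := (congrArg Subtype.val ht).symm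
  refine ⟨t.1, ?_⟩
  rw [hwv, hb1, hb2]

theorem image_mem {g : Equiv.Perm V} (hg : g ∈ S.isom) (hge : g e = e)
    (hfix : ∀ u ∈ U, g u = u ∨ g u = u + e) {w : V} (hw : w ∈ S.perp U) : g w ∈ S.perp U := fun u hu => by
  obtain ⟨u', hu', e'⟩ : ∃ u' ∈ U, g u' = u := by
    rcases hfix u hu with h | h
    · exact ⟨u, hu, h⟩
    · exact ⟨u + e, add_mem hu R.e_mem, by rw [isom_add hg, h, hge, S.add_self_right]⟩
  rw [← e', isom_β hg]
  exact hw u' hu'

/-- The pointwise fixer has at most 48 elements. -/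
theorem card_fixers_le (P : Subgroup (Equiv.Perm V)) (hP : P ≤ S.isom) (hfix : ∀ g ∈ P, ∀ u ∈ U, g u = u) :
    Nat.card P ≤ 48 := by
  classical
  haveI := S.fin
  obtain ⟨f, h, hf, hh, hfh, hw⟩ := R.exists_frame
  obtain ⟨v0, hv0⟩ := S.exists_eq_one R.ne
  rw [S.β_comm] at hv0
  let T := ZMod 2 × ZMod 2 × ZMod 2
  let φ : T → V := fun t => sm t.1 e + sm t.2.1 f + sm t.2.2 h
  have hex : ∀ w ∈ S.perp U, ∃ t, φ t = w := fun w hw' => by
    obtain ⟨i, hi⟩ := hw w hw'
    exact ⟨(i, _, _), hi.symm⟩
  have himg : ∀ g ∈ P, ∀ w ∈ S.perp U, g w ∈ S.perp U := fun g hg w hw' =>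
    R.image_mem (hP hg) (hfix g hg e R.e_mem) (fun u hu => Or.inl (hfix g hg u hu)) hw'
  choose idx hidx using hex
  have hpair : ∀ s t : T, S.β (φ s) (φ t) = s.2.1 * t.2.2 + s.2.2 * t.2.1 := fun s t => by
    have hef : S.β e f = 0 := by rw [S.β_comm]; exact hf e R.e_mem
    have heh : S.β e h = 0 := by rw [S.β_comm]; exact hh e R.e_mem
    simp only [φ, S.β_add, S.β_add', S.β_sm, S.β_sm', S.β_self, hf e R.e_mem, hh e R.e_mem, hef, heh,
      hfh, S.β_comm h f, mul_zero, mul_one, add_zero, zero_add]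
  let Pairs := {p : T × T // p.1.2.1 * p.2.2.2 + p.1.2.2 * p.2.2.1 = 1}
  let pair : P → Pairs := fun g => ⟨(idx (g.1 f) (himg g g.2 f hf), idx (g.1 h) (himg g g.2 h hh)), by
    rw [← hpair, hidx, hidx, isom_β (hP g.2), hfh]⟩
  let rep : P → P := fun g => @Function.invFun _ _ ⟨1⟩ pair (pair g)
  let code : P → Pairs × Bool := fun g => (pair g, decide (g.1 v0 = (rep g).1 v0))
  have hagree : ∀ g g' : P, pair g = pair g' → ∀ x, S.β x e = 0 → g.1 x = g'.1 x := by
    intro g g' he x hx
    have hsub : U ⊔ S.perp U ≤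
        { carrier := {x | g.1 x = g'.1 x}
          zero_mem' := by show g.1 0 = g'.1 0; rw [isom_zero (hP g.2), isom_zero (hP g'.2)]
          add_mem' := fun {a b} ha hb => by
            show g.1 (a + b) = g'.1 (a + b)
            rw [isom_add (hP g.2), isom_add (hP g'.2), ha, hb]
          neg_mem' := fun {a} ha => by rwa [S.neg] } := by
      refine sup_le (fun u hu => ?_) fun w hw' => ?_
      · show g.1 u = g'.1 u
        rw [hfix g g.2 u hu, hfix g' g'.2 u hu]
      · show g.1 w = g'.1 w
        have e1 : g.1 f = g'.1 f := by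
          have := congrArg (fun p : Pairs => φ p.1.1) he
          simpa only [pair, hidx] using this
        have e2 : g.1 h = g'.1 h := by
          have := congrArg (fun p : Pairs => φ p.1.2) he
          simpa only [pair, hidx] using this
        obtain ⟨i, hi⟩ := hw w hw'
        have hs : ∀ (k : P) (a : ZMod 2) (v : V), k.1 (sm a v) = sm a (k.1 v) := fun k a v => by
          rcases zmod2 a with rfl | rfl <;> simp [sm_zero', sm_one, isom_zero (hP k.2)]
        rw [hi]
        simp only [isom_add (hP g.2), isom_add (hP g'.2), hs, hfix g g.2 e R.e_mem, hfix g' g'.2 e R.e_mem,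
          e1, e2]
    exact hsub (by rw [R.sup_eq]; exact hx)
  have hdiff : ∀ g g' : P, pair g = pair g' → g'.1 v0 = g.1 v0 ∨ g'.1 v0 = g.1 v0 + e := by
    intro g g' he
    have hd : ∀ x, S.β x e = 0 → S.β (g'.1 v0 + g.1 v0) x = 0 := by
      intro x hx
      obtain ⟨y, rfl⟩ := g.1.surjective x
      have hy : S.β y e = 0 := by
        have := isom_β (hP g.2) y e
        rw [hfix g g.2 e R.e_mem, hx] at this
        exact this.symm
      rw [S.β_add]
      conv_lhs => arg 1; rw [hagree g g' he y hy]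
      rw [isom_β (hP g'.2), isom_β (hP g.2)]
      generalize S.β v0 y = b; revert b; decide
    rcases S.perp_perp1 R.ne hd with a | a
    · left; rwa [add_eq_zero_iff_eq_neg, S.neg] at a
    · right; rw [← a, add_comm (g'.1 v0), ← add_assoc, S.self, zero_add]
  have hcode : Function.Injective code := by
    intro g g' he
    simp only [code, Prod.mk.injEq] at he
    obtain ⟨hp, hd⟩ := he
    have hr : rep g' = rep g := by simp only [rep, hp]
    have hrp : pair (rep g) = pair g := @Function.invFun_eq _ _ ⟨1⟩ pair (pair g) ⟨g, rfl⟩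
    rw [hr] at hd
    have hv : g'.1 v0 = g.1 v0 := by
      rcases hdiff (rep g) g hrp with a | a <;> rcases hdiff (rep g) g' (hrp.trans hp) with b | b <;>
        rw [a, b] at hd ⊢
      all_goals exfalso
      all_goals simp [R.ne] at hd
    refine Subtype.ext (Equiv.ext fun x => ?_)
    rcases zmod2 (S.β x e) with a | a
    · exact hagree g g' hp x a
    · have ha : S.β (x + v0) e = 0 := by rw [S.β_add, a, hv0]; rfl
      rw [show x = x + v0 + v0 by rw [S.add_self_right], isom_add (hP g.2), isom_add (hP g'.2),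
        hagree g g' hp _ ha, hv]
  have hcard : Nat.card Pairs = 24 := by
    rw [Nat.card_eq_fintype_card]
    show Fintype.card {p : T × T // p.1.2.1 * p.2.2.2 + p.1.2.2 * p.2.2.1 = 1} = 24
    decide +kernel
  have := Nat.card_le_card_of_injective code hcode
  rw [Nat.card_prod, hcard, show Nat.card Bool = 2 by simp] at this
  omega

/-- A group of order 32 trivial on the subgroup modulo its radical has an abelian subgroup of index two. -/
theorem exists_abelian_half (P : Subgroup (Equiv.Perm V)) (hP : P ≤ S.isom) (h32 : Nat.card P = 32)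
    (hfix : ∀ g ∈ P, g e = e ∧ ∀ u ∈ U, g u = u ∨ g u = u + e) :
    ∃ A : Subgroup P, (∀ a ∈ A, ∀ b ∈ A, a * b = b * a) ∧ Nat.card P ≤ 2 * Nat.card A := by
  classical
  haveI := S.fin
  obtain ⟨f, h, hf, hh, hfh, hw⟩ := R.exists_frame
  have hef : S.β e f = 0 := by rw [S.β_comm]; exact hf e R.e_mem
  have heh : S.β e h = 0 := by rw [S.β_comm]; exact hh e R.e_mem
  have hhf : S.β h f = 1 := by rw [S.β_comm]; exact hfh
  let c : V → ZMod 2 × ZMod 2 := fun w => (S.β w h, S.β w f)
  let m : ZMod 2 × ZMod 2 → V := fun y => sm y.1 f + sm y.2 h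
  have hmm : ∀ y, m y ∈ S.perp U := fun y => by
    refine add_mem ?_ ?_
    · rcases zmod2 y.1 with a | a <;> rw [a]
      · rw [sm_zero']; exact zero_mem _
      · rw [sm_one]; exact hf
    · rcases zmod2 y.2 with a | a <;> rw [a]
      · rw [sm_zero']; exact zero_mem _
      · rw [sm_one]; exact hh
  have hcm : ∀ y, c (m y) = y := fun y => by
    simp only [c, m, S.β_add, S.β_sm, hfh, hhf, S.β_self, mul_one, mul_zero, add_zero, zero_add]
  have hdecomp : ∀ w ∈ S.perp U, w = m (c w) ∨ w = m (c w) + e := fun w hw' => by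
    obtain ⟨i, hi⟩ := hw w hw'
    rcases zmod2 i with rfl | rfl
    · left; conv_lhs => rw [hi, sm_zero', zero_add]
    · right; conv_lhs => rw [hi, sm_one]
      simp only [m, c]; abel
  have hcg : ∀ g ∈ P, ∀ w ∈ S.perp U, c (g (m (c w))) = c (g w) := fun g hg w hw' => by
    rcases hdecomp w hw' with a | a
    · rw [← a]
    · conv_rhs => rw [a, isom_add (hP hg), (hfix g hg).1]
      simp only [c, S.β_add, hef, heh, add_zero]
  have himg : ∀ g ∈ P, ∀ w ∈ S.perp U, g w ∈ S.perp U := fun g hg w hw' =>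
    R.image_mem (hP hg) (hfix g hg).1 (hfix g hg).2 hw'
  let σ : P → (ZMod 2 × ZMod 2) → ZMod 2 × ZMod 2 := fun g y => c (g.1 (m y))
  have σ_mul : ∀ g k : P, ∀ y, σ (g * k) y = σ g (σ k y) := fun g k y => by
    simp only [σ]
    rw [hcg g g.2 _ (himg k k.2 _ (hmm y))]
    rfl
  have σ_one : ∀ y, σ 1 y = y := fun y => hcm y
  let ψ : P →* Equiv.Perm (ZMod 2 × ZMod 2) :=
    { toFun := fun g => ⟨σ g, σ g⁻¹, fun y => by rw [← σ_mul, inv_mul_cancel, σ_one],
        fun y => by rw [← σ_mul, mul_inv_cancel, σ_one]⟩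
      map_one' := Equiv.ext σ_one
      map_mul' := fun g k => Equiv.ext (σ_mul g k) }
  have hψ0 : ψ.range ≤ MulAction.stabilizer (Equiv.Perm (ZMod 2 × ZMod 2)) (0 : ZMod 2 × ZMod 2) := by
    rintro _ ⟨g, rfl⟩
    rw [MulAction.mem_stabilizer_iff]
    show σ g 0 = 0
    simp only [σ, m, Prod.fst_zero, Prod.snd_zero, sm_zero', add_zero, isom_zero (hP g.2), c, S.zero_β]
    rfl
  have hst : Nat.card (MulAction.stabilizer (Equiv.Perm (ZMod 2 × ZMod 2)) (0 : ZMod 2 × ZMod 2)) = 6 := by
    rw [Nat.card_eq_fintype_card]; decide +kernel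
  have hr6 : Nat.card ψ.range ∣ 6 := hst ▸ Subgroup.card_dvd_of_le hψ0
  have hker := ψ.ker.card_mul_index
  rw [Subgroup.index_ker, h32] at hker
  have hr32 : Nat.card ψ.range ∣ 32 := ⟨_, by rw [mul_comm]; exact hker.symm⟩
  have hr2 : Nat.card ψ.range ≤ 2 := Nat.le_of_dvd (by norm_num) (by
    have := Nat.dvd_gcd hr6 hr32; rwa [show Nat.gcd 6 32 = 2 by norm_num] at this)
  refine ⟨ψ.ker, fun a ha b hb => ?_, by rw [h32, ← hker, mul_comm 2]; exact Nat.mul_le_mul_left _ hr2⟩
  have hshear : ∀ g : P, g ∈ ψ.ker → ∀ x, S.β x e = 0 → g.1 x = x ∨ g.1 x = x + e := by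
    intro g hg x hx
    have hσ : ∀ y, σ g y = y := fun y => DFunLike.congr_fun (hg : ψ g = 1) y
    have hsub : U ⊔ S.perp U ≤
        { carrier := {x | g.1 x = x ∨ g.1 x = x + e}
          zero_mem' := Or.inl (isom_zero (hP g.2))
          add_mem' := fun {a b} ha hb => by
            show g.1 (a + b) = a + b ∨ g.1 (a + b) = a + b + e
            rw [isom_add (hP g.2)]
            rcases ha with p | p <;> rcases hb with q | q <;> rw [p, q]
            · exact Or.inl rfl
            · exact Or.inr (by abel)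
            · exact Or.inr (by abel)
            · left; rw [show a + e + (b + e) = a + b + (e + e) by abel, S.self, add_zero]
          neg_mem' := fun {a} ha => by rwa [S.neg] } := by
      refine sup_le (fun u hu => (hfix g g.2).2 u hu) fun w hw' => ?_
      show g.1 w = w ∨ g.1 w = w + e
      have e1 : c (g.1 w) = c w := by rw [← hcg g g.2 w hw']; exact hσ (c w)
      rcases hdecomp w hw' with a | a <;> rcases hdecomp _ (himg g g.2 w hw') with b | b <;> rw [e1] at b
      · exact Or.inl (b.trans a.symm)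
      · exact Or.inr (by rw [b, ← a])
      · exact Or.inr (by rw [b]; conv_rhs => rw [a, S.add_self_right])
      · exact Or.inl (b.trans a.symm)
    exact hsub (by rw [R.sup_eq]; exact hx)
  exact Subtype.ext (S.shear_comm R.ne (hP a.2) (hP b.2) (hfix a a.2).1 (hfix b b.2).1
    (hshear a ha) (hshear b hb))

end Rad

end Cfsg.Agent.CoTwoType.CaseR
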