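import Cfsg.Agent.Lib.CoTwoType.CaseR.Trans
import Cfsg.Agent.Lib.CoTwoType.CaseR.Fixers

/-
More facts on orthogonal spaces of order 256 (helper33).

* `exists_q_perp3`, `exists_beta_one` : vectors with prescribed products
* `card_shears_le` : shears fixing a nonsingular vector
* `no_odd_alt` : no involution with fixed space of order 32 and singular differences
-/

set_option autoImplicit false
set_option linter.style.haveILetI false

namespace Cfsg.Agent.CoTwoType.CaseR.Space

variable {V : Type*} [AddCommGroup V] (S : Space V)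

include S

/-- A nonsingular vector orthogonal to three given ones. -/
theorem exists_q_perp3 (a b c : V) : ∃ w, S.β w a = 0 ∧ S.β w b = 0 ∧ S.β w c = 0 ∧ S.q w = 1 := by
  have h1 := S.half ⊤ a
  have h2 := S.half (⊤ ⊓ S.perp1 a) b
  have h3 := S.half (⊤ ⊓ S.perp1 a ⊓ S.perp1 b) c
  rw [AddSubgroup.card_top, S.card] at h1
  obtain ⟨w, hw, hq⟩ := S.exists_q_one (A := ⊤ ⊓ S.perp1 a ⊓ S.perp1 b ⊓ S.perp1 c) (by omega)
  exact ⟨w, hw.1.1.2, hw.1.2, hw.2, hq⟩

/-- A vector orthogonal to two given ones and not to a third. -/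
theorem exists_beta_one {a b e : V} (h0 : e ≠ 0) (ha : e ≠ a) (hb : e ≠ b) (hab : e ≠ a + b) :
    ∃ w, S.β w a = 0 ∧ S.β w b = 0 ∧ S.β w e = 1 := by
  by_contra hc
  push Not at hc
  have h : e ∈ S.perp (S.perp (S.pr2 a ⊔ S.pr2 b)) := fun w hw => by
    rw [S.β_comm]
    exact (zmod2 _).resolve_right (hc w (hw a (AddSubgroup.mem_sup_left (Or.inr rfl)))
      (hw b (AddSubgroup.mem_sup_right (Or.inr rfl))))
  rw [S.perp_perp] at h
  obtain ⟨p, hp, r, hr, rfl⟩ := AddSubgroup.mem_sup.1 h
  rcases hp with rfl | rfl <;> rcases hr with rfl | rfl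
  · exact h0 (add_zero 0)
  · exact hb (zero_add r)
  · exact ha (add_zero p)
  · exact hab rfl

/-- Isometries fixing a singular vector and a nonsingular one, trivial on the orthogonal of the first modulo it. -/
theorem card_shears_le {e x : V} (he : e ≠ 0) (hqe : S.q e = 0) (hqx : S.q x = 1)
    (P : Subgroup (Equiv.Perm V)) (hP : P ≤ S.isom) (hfe : ∀ h ∈ P, h e = e) (hfx : ∀ h ∈ P, h x = x)
    (hs : ∀ h ∈ P, ∀ u, S.β u e = 0 → h u = u ∨ h u = u + e) : Nat.card P ≤ 32 := by
  haveI := S.fin
  have key : ∀ h ∈ P, ∀ v0, S.β v0 e = 1 → S.β (h v0 + v0) e = 0 ∧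
      ∀ u, S.β u e = 0 → h u = u + sm (S.β u (h v0 + v0)) e := by
    intro h hh v0 hv0
    have h1 : S.β (h v0) e = 1 := by
      have := isom_β (hP hh) v0 e
      rwa [hfe h hh, hv0] at this
    refine ⟨by rw [S.β_add, h1, hv0]; rfl, fun u hu => ?_⟩
    have hb := isom_β (hP hh) u v0
    have he' : S.β e (h v0) = 1 := by rw [S.β_comm]; exact h1
    rcases hs h hh u hu with e' | e' <;> rw [e'] at hb ⊢
    · have : S.β u (h v0 + v0) = 0 := by
        rw [S.β_add', hb]; generalize S.β u v0 = b; revert b; decide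
      rw [this, sm_zero', add_zero]
    · rw [S.β_add, he'] at hb
      have : S.β u (h v0 + v0) = 1 := by
        rw [S.β_add']; revert hb; generalize S.β u v0 = b; generalize S.β u (h v0) = c
        revert b c; decide
      rw [this, sm_one]
  have det : ∀ h ∈ P, ∀ k ∈ P, ∀ v0, S.β v0 e = 1 → h v0 = k v0 → h = k := by
    intro h hh k hk v0 hv0 heq
    have hu : ∀ u, S.β u e = 0 → h u = k u := fun u hu => by
      rw [(key h hh v0 hv0).2 u hu, (key k hk v0 hv0).2 u hu, heq]
    refine Equiv.ext fun v => ?_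
    rcases zmod2 (S.β v e) with h0 | h0
    · exact hu v h0
    · have hv : S.β (v + v0) e = 0 := by rw [S.β_add, h0, hv0]; rfl
      rw [show v = v + v0 + v0 by rw [S.add_self_right], isom_add (hP hh), isom_add (hP hk), hu _ hv, heq]
  rcases zmod2 (S.β x e) with hxe | hxe
  · obtain ⟨v0, hv0⟩ := S.exists_eq_one he
    rw [S.β_comm] at hv0
    let W : AddSubgroup V := S.perp1 e ⊓ S.perp1 x
    have hW : Nat.card W = 64 := by
      have hxne : x ≠ 0 := fun h => by rw [h, S.q_zero] at hqx; exact zero_ne_one hqx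
      have hne : x ≠ e := fun h => by rw [h, hqe] at hqx; exact zero_ne_one hqx
      have hlt : Nat.card W < 128 := by
        rw [← S.card_perp1 he]
        refine lt_of_le_of_ne (AddSubgroup.card_le_of_le inf_le_left) fun hc => ?_
        have hEq := AddSubgroup.eq_of_le_of_card_ge (inf_le_left : W ≤ S.perp1 e) hc.ge
        rcases S.perp_perp1 he (v := x) (fun u hu => by
          have : u ∈ W := hEq.ge hu
          rw [S.β_comm]; exact this.2) with r | r
        exacts [hxne r, hne r]
      have h1 := S.half (S.perp1 e) x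
      rw [S.card_perp1 he] at h1
      change 128 ≤ 2 * Nat.card W at h1
      obtain ⟨k, hk, hkW⟩ := (Nat.dvd_prime_pow Nat.prime_two).1
        (show Nat.card W ∣ 2 ^ 8 from ⟨_, (S.card_perp W).symm⟩)
      rw [hkW] at h1 hlt ⊢
      interval_cases k <;> simp_all
    have hee := S.β_self e
    let f : P × Bool → W := fun p => ⟨p.1.1 v0 + v0 + bif p.2 then e else 0, by
      obtain ⟨h1, h2⟩ := key p.1 p.1.2 v0 hv0
      refine add_mem ⟨h1, ?_⟩ ?_
      · show S.β (p.1.1 v0 + v0) x = 0
        have h3 := h2 x hxe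
        rw [hfx p.1 p.1.2] at h3
        rw [S.β_comm]
        refine (zmod2 _).resolve_right fun h4 => ?_
        rw [h4, sm_one] at h3
        exact he (add_eq_left.1 h3.symm)
      · cases p.2
        · exact zero_mem _
        · exact ⟨hee, show S.β e x = 0 by rw [S.β_comm]; exact hxe⟩⟩
    have hne : ∀ h k : P, h.1 v0 + v0 ≠ k.1 v0 + v0 + e := by
      intro h k heq
      have h1 : ∀ l : P, S.q (l.1 v0 + v0) = S.β (l.1 v0 + v0) v0 := fun l => by
        rw [S.q_add, S.β_add, isom_q (hP l.2), S.β_self, add_zero,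
          show S.q v0 + S.q v0 = 0 by generalize S.q v0 = b; revert b; decide, zero_add]
      have h2 := h1 h
      rw [heq, S.q_add_x ((key k k.2 v0 hv0).1), hqe, add_zero, h1 k, S.β_add _ e,
        S.β_comm e v0, hv0] at h2
      exact one_ne_zero (add_eq_left.1 h2.symm)
    have hf : Function.Injective f := by
      rintro ⟨h, i⟩ ⟨k, j⟩ hhk
      have e0 := congrArg Subtype.val hhk
      simp only [f] at e0
      have ij : i = j := by
        cases i <;> cases j <;> simp only [cond_true, cond_false, add_zero] at e0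
        · rfl
        · exact absurd e0 (hne h k)
        · exact absurd e0.symm (hne k h)
        · rfl
      subst ij
      exact Prod.ext (Subtype.ext (det h h.2 k k.2 v0 hv0 (add_right_cancel (add_right_cancel e0)))) rfl
    have h := Nat.card_le_card_of_injective f hf
    rw [Nat.card_prod, hW, show Nat.card Bool = 2 by simp] at h
    omega
  · have hsub : Subsingleton P := ⟨fun h k => Subtype.ext (det h h.2 k k.2 x hxe
      ((hfx h h.2).trans (hfx k k.2).symm))⟩
    have := Finite.card_le_one_iff_subsingleton.2 hsub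
    omega

/-- An involutory isometry whose differences are singular does not fix exactly 32 vectors. -/
theorem no_odd_alt {g : Equiv.Perm V} (hg : g ∈ S.isom) (h2 : ∀ v, g (g v) = v)
    (hF : Nat.card (S.fix hg) = 32) (hs : ∀ v, S.q (g v + v) = 0) : False := by
  haveI := S.fin
  let M := S.dif hg
  let b : V → V → ZMod 2 := fun u v => S.β u (M v)
  have hsym : ∀ u v, b u v = b v u := fun u v => by
    show S.β u (g v + v) = S.β v (g u + u)
    rw [S.β_add', S.β_add', S.β_comm v u, S.β_comm v (g u)]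
    congr 1
    rw [← isom_β hg u (g v), h2]
  have halt : ∀ v, b v v = 0 := fun v => by
    have h := hs v
    rw [S.q_add, isom_q hg, show S.q v + S.q v = 0 by generalize S.q v = c; revert c; decide,
      zero_add] at h
    show S.β v (g v + v) = 0
    rw [S.β_add', S.β_self, add_zero, S.β_comm]; exact h
  have hadd : ∀ u u' v, b (u + u') v = b u v + b u' v := fun u u' v => S.β_add u u' (M v)
  have hsm : ∀ (c : ZMod 2) u v, b (sm c u) v = c * b u v := fun c u v => S.β_sm c u (M v)
  have hfix : ∀ f ∈ S.fix hg, ∀ v, b f v = 0 := fun f hf v => by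
    have : M v ∈ S.perp (S.fix hg) := by rw [← S.range_dif_eq hg]; exact ⟨v, rfl⟩
    show S.β f (M v) = 0
    rw [S.β_comm]; exact this f hf
  have hnd : ∀ v, v ∉ S.fix hg → ∃ u, b v u = 1 := fun v hv => by
    have : M v ≠ 0 := fun h => hv ((S.dif_eq_zero hg).1 h)
    obtain ⟨u, hu⟩ := S.exists_eq_one this
    exact ⟨u, by rw [hsym]; show S.β u (M v) = 1; rw [S.β_comm]; exact hu⟩
  obtain ⟨v1, -, hv1⟩ : ∃ v ∈ (⊤ : AddSubgroup V), v ∉ S.fix hg := by
    refine SetLike.exists_of_lt (lt_top_iff_ne_top.2 fun h => ?_)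
    rw [h, AddSubgroup.card_top, S.card] at hF
    norm_num at hF
  obtain ⟨v2, hv12⟩ := hnd v1 hv1
  obtain ⟨v3, hv3, hv3F⟩ : ∃ v ∈ S.perp1 (M v1) ⊓ S.perp1 (M v2), v ∉ S.fix hg := by
    by_contra hc
    push Not at hc
    have h := AddSubgroup.card_le_of_le
      (show S.perp1 (M v1) ⊓ S.perp1 (M v2) ≤ S.fix hg from fun v hv => hc v hv)
    have h1 := S.half ⊤ (M v1)
    have h2' := S.half (⊤ ⊓ S.perp1 (M v1)) (M v2)
    rw [AddSubgroup.card_top, S.card] at h1
    rw [top_inf_eq] at h1 h2'
    omega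
  have h31 : b v3 v1 = 0 := hv3.1
  have h32 : b v3 v2 = 0 := hv3.2
  obtain ⟨u, hu⟩ := hnd v3 hv3F
  let v4 := u + sm (b u v2) v1 + sm (b u v1) v2
  have h21 : b v2 v1 = 1 := by rw [hsym]; exact hv12
  have h13 : b v1 v3 = 0 := by rw [hsym]; exact h31
  have h23 : b v2 v3 = 0 := by rw [hsym]; exact h32
  have h41 : b v4 v1 = 0 := by
    simp only [v4, hadd, hsm, halt, h21, mul_zero, mul_one, add_zero]
    generalize b u v1 = c; revert c; decide
  have h42 : b v4 v2 = 0 := by
    simp only [v4, hadd, hsm, halt, hv12, mul_zero, mul_one, add_zero]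
    generalize b u v2 = c; revert c; decide
  have h43 : b v4 v3 = 1 := by
    simp only [v4, hadd, hsm, h13, h23, mul_zero, add_zero]
    rw [hsym]; exact hu
  have h34 : b v3 v4 = 1 := by rw [hsym]; exact h43
  have h14 : b v1 v4 = 0 := by rw [hsym]; exact h41
  have h24 : b v2 v4 = 0 := by rw [hsym]; exact h42
  let f : (ZMod 2 × ZMod 2 × ZMod 2 × ZMod 2) × S.fix hg → V := fun p =>
    sm p.1.1 v1 + sm p.1.2.1 v2 + sm p.1.2.2.1 v3 + sm p.1.2.2.2 v4 + p.2
  have e1 : ∀ p, b (f p) v2 = p.1.1 := fun p => by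
    simp only [f, hadd, hsm, hfix _ p.2.2, halt, hv12, h32, h42, mul_zero, mul_one, add_zero]
  have e2 : ∀ p, b (f p) v1 = p.1.2.1 := fun p => by
    simp only [f, hadd, hsm, hfix _ p.2.2, halt, h21, h31, h41, mul_zero, mul_one, add_zero, zero_add]
  have e3 : ∀ p, b (f p) v4 = p.1.2.2.1 := fun p => by
    simp only [f, hadd, hsm, hfix _ p.2.2, halt, h14, h24, h34, mul_zero, mul_one, add_zero, zero_add]
  have e4 : ∀ p, b (f p) v3 = p.1.2.2.2 := fun p => by
    simp only [f, hadd, hsm, hfix _ p.2.2, halt, h13, h23, h43, mul_zero, mul_one, add_zero, zero_add]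
  have hinj : Function.Injective f := by
    intro p r h
    have a1 := congrArg (fun t => b t v2) h
    have a2 := congrArg (fun t => b t v1) h
    have a3 := congrArg (fun t => b t v4) h
    have a4 := congrArg (fun t => b t v3) h
    simp only [e1] at a1
    simp only [e2] at a2
    simp only [e3] at a3
    simp only [e4] at a4
    have h1 : p.1 = r.1 := Prod.ext a1 (Prod.ext a2 (Prod.ext a3 a4))
    refine Prod.ext h1 (Subtype.ext ?_)
    simp only [f, h1] at h
    exact add_left_cancel h
  have h := Nat.card_le_card_of_injective f hinj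
  rw [Nat.card_prod, Nat.card_prod, Nat.card_prod, Nat.card_prod, Nat.card_zmod, hF, S.card] at h
  omega

end Cfsg.Agent.CoTwoType.CaseR.Space
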