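import Cfsg.Agent.Lib.CoTwoType.CaseR.Refl

/-
Pointwise fixers of a subgroup with singular orthogonal (helper33).

* `card_fixer_le_eight` : three vectors spanning modulo the subgroup give at most eight fixers
-/

set_option autoImplicit false
set_option linter.style.haveILetI false

namespace Cfsg.Agent.CoTwoType.CaseR.Space

variable {V : Type*} [AddCommGroup V] (S : Space V)

include S

theorem card_fixer_le_eight (U : AddSubgroup V) (hp : S.perp U ≤ U) (hs : ∀ w ∈ S.perp U, S.q w = 0)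
    (v1 v2 v3 : V) (hspan : ∀ v, ∃ u ∈ U, ∃ a b c, v = u + sm a v1 + sm b v2 + sm c v3)
    (P : Subgroup (Equiv.Perm V)) (hP : P ≤ S.isom) (hfix : ∀ g ∈ P, ∀ u ∈ U, g u = u) :
    Nat.card P ≤ 8 := by
  haveI := S.fin
  have hM : ∀ g ∈ P, ∀ v, g v + v ∈ S.perp U := fun g hg v u hu => by
    have h := isom_β (hP hg) v u
    rw [hfix g hg u hu] at h
    rw [S.β_add, h]
    generalize S.β v u = c; revert c; decide
  have hgv : ∀ (g : Equiv.Perm V) v, g v = v + (g v + v) := fun g v => by
    rw [add_comm (g v) v, ← add_assoc, S.self, zero_add]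
  have halt : ∀ g ∈ P, ∀ v, S.β (g v + v) v = 0 := fun g hg v => by
    have h := isom_q (hP hg) v
    rw [hgv g v, S.q_add, hs _ (hM g hg v), add_zero] at h
    rw [S.β_comm]
    linear_combination h
  have hsym : ∀ g ∈ P, ∀ v w, S.β (g v + v) w = S.β (g w + w) v := fun g hg v w => by
    have h := isom_β (hP hg) v w
    obtain ⟨m, hm, hmv⟩ : ∃ m ∈ S.perp U, g v + v = m := ⟨_, hM g hg v, rfl⟩
    obtain ⟨m', hm', hmw⟩ : ∃ m ∈ S.perp U, g w + w = m := ⟨_, hM g hg w, rfl⟩
    rw [hgv g v, hgv g w, hmv, hmw, S.β_add, S.β_add', S.β_add', hm _ (hp hm'), add_zero,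
      S.β_comm v m'] at h
    rw [hmv, hmw]
    revert h
    generalize S.β m w = a; generalize S.β m' v = b; generalize S.β v w = c
    revert a b c; decide
  let code : P → ZMod 2 × ZMod 2 × ZMod 2 := fun g =>
    (S.β (g.1 v1 + v1) v2, S.β (g.1 v1 + v1) v3, S.β (g.1 v2 + v2) v3)
  have hinj : Function.Injective code := by
    intro g k h
    simp only [code, Prod.mk.injEq] at h
    obtain ⟨h12, h13, h23⟩ := h
    have h21 : S.β (g.1 v2 + v2) v1 = S.β (k.1 v2 + v2) v1 := by
      rw [hsym g g.2, h12, hsym k k.2]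
    have h31 : S.β (g.1 v3 + v3) v1 = S.β (k.1 v3 + v3) v1 := by
      rw [hsym g g.2, h13, hsym k k.2]
    have h32 : S.β (g.1 v3 + v3) v2 = S.β (k.1 v3 + v3) v2 := by
      rw [hsym g g.2, h23, hsym k k.2]
    have hh : ∀ p, S.β (g.1 p + p) p = S.β (k.1 p + p) p := fun p => by rw [halt g g.2, halt k k.2]
    have heq : ∀ p, (S.β (g.1 p + p) v1 = S.β (k.1 p + p) v1 ∧ S.β (g.1 p + p) v2 = S.β (k.1 p + p) v2 ∧
        S.β (g.1 p + p) v3 = S.β (k.1 p + p) v3) → g.1 p = k.1 p := by
      rintro p ⟨a1, a2, a3⟩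
      have : g.1 p + p + (k.1 p + p) = 0 := by
        refine S.nondeg _ fun y => ?_
        obtain ⟨u, hu, a, b, c, rfl⟩ := hspan y
        have hg' := hM g g.2 p u hu
        have hk' := hM k k.2 p u hu
        generalize g.1 p + p = m at a1 a2 a3 hg' ⊢
        generalize k.1 p + p = m' at a1 a2 a3 hk' ⊢
        simp only [S.β_add, S.β_add', S.β_sm', hg', hk', a1, a2, a3, zero_add]
        generalize a * S.β m' v1 = x
        generalize b * S.β m' v2 = y
        generalize c * S.β m' v3 = w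
        revert x y w; decide
      rw [show g.1 p + p + (k.1 p + p) = g.1 p + k.1 p + (p + p) by abel, S.self, add_zero,
        add_eq_zero_iff_eq_neg, S.neg] at this
      exact this
    have e1 := heq v1 ⟨hh v1, h12, h13⟩
    have e2 := heq v2 ⟨h21, hh v2, h23⟩
    have e3 := heq v3 ⟨h31, h32, hh v3⟩
    have hsm : ∀ (f : P) (a : ZMod 2) (v : V), f.1 (sm a v) = sm a (f.1 v) := fun f a v => by
      rcases zmod2 a with rfl | rfl <;> simp [sm_zero', sm_one, isom_zero (hP f.2)]
    refine Subtype.ext (Equiv.ext fun y => ?_)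
    obtain ⟨u, hu, a, b, c, rfl⟩ := hspan y
    simp only [isom_add (hP g.2), isom_add (hP k.2), hfix g g.2 u hu, hfix k k.2 u hu, hsm, e1, e2, e3]
  have := Nat.card_le_card_of_injective code hinj
  simpa using this

end Cfsg.Agent.CoTwoType.CaseR.Space
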