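import Cfsg.Agent.Lib.CoTwoType.CaseR.Commuting

/-
The inverting case (helper33).

* `Conf.inverting_false` : the case where `a` inverts the fixed element is impossible
-/

set_option autoImplicit false
set_option linter.style.haveILetI false

namespace Cfsg.Agent.CoTwoType

open Cfsg.Agent.Multiplier.Sp6 CaseR

universe u

variable {G : Type u} [Group G]

theorem mem_or_mul_of_vc {z : G} (S : Setup z) {K : Subgroup G} (hzK : z ∈ K) {q : G} (hq : q ∈ S.Q)
    (h : S.vc q ∈ S.img K) : q ∈ K := by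
  obtain ⟨r, hr, hrQ, e⟩ := h
  exact S.mul_z_mem hzK hr ((S.vc_eq hq hrQ).1 e.symm)

namespace Conf

variable {z a : G} (K : Conf z a)

include K

/-- The inverting case is impossible. -/
theorem inverting_false [Finite G] (h : ¬ Commute a K.x) : False := by
  have hz2 : ¬ Commute z K.x2 := fun h' => h (K.iff_symm.2 h')
  have hnsq : ∀ d, Commute d z → Commute d a → d * d ≠ z := fun d _ hda hd => hz2 (by
    have := K.symm.sq_comm hda
    rwa [hd] at this)
  have hncomm : ∀ d e, Commute d a → Commute e a → d * e * d⁻¹ * e⁻¹ ≠ z := fun d e hd he hde => hz2 (by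
    have := K.symm.comm_comm hd he
    rwa [hde] at this)
  have hfixm : a * K.x * a⁻¹ = K.x * z := (K.fix a K.comm).resolve_left fun e => h (conj_id_iff.1 e)
  have haa : a * a = 1 := K.S2.zz
  have hai : a⁻¹ = a := K.S2.z_inv
  set T := K.S.space with hT
  haveI := T.fin
  set xv := K.S.vc K.x with hxv
  have hxv0 : xv ≠ 0 := fun e => by
    rcases (K.S.vc_eq_zero K.hx).1 e with r | r
    · exact K.S.z_ne (by rw [← K.sqx, r, one_mul])
    · exact K.S.z_ne (by rw [← K.sqx, r, K.S.zz])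
  have hxne : K.x ≠ 1 := fun r => hxv0 (by rw [hxv, r, K.S.vc_one])
  have hxz : K.x ≠ z := fun r => hxv0 (by rw [hxv, r, K.S.vc_z])
  have hqx : T.q xv = 1 := (K.S.qv_eq_one K.hx).2 K.sqx
  -- the centraliser in the core
  have hRel : ∀ r ∈ K.R, r * r = 1 := fun r hr => by
    obtain ⟨hrQ, hra⟩ := K.mem_R.1 hr
    exact (K.S.sq r hrQ).resolve_right (hnsq r (K.S.le_cent r hrQ) hra)
  have hUsing : ∀ v ∈ K.U, T.q v = 0 := fun v hv => by
    obtain ⟨r, hr, hrQ, rfl⟩ := hv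
    exact (K.S.qv_eq_zero hrQ).2 (hRel r hr)
  have hgA : K.S.act a ∈ T.isom := K.S.act_isom K.comm
  set F := T.fix hgA with hF
  have hUF : K.U ≤ F := fun v hv => by
    obtain ⟨r, hr, hrQ, rfl⟩ := hv
    exact K.S.act_fix K.comm hrQ (K.mem_R.1 hr).2.symm
  have hxF : xv ∈ F := K.S.act_fix' K.comm K.hx (Or.inr hfixm)
  have hinvol : ∀ v, K.S.act a (K.S.act a v) = v := fun v => by
    rw [K.S.act_act K.comm, haa, K.S.act_one]; rfl
  have hperp : T.perp F ≤ F := by
    rw [hF, ← T.range_dif_eq hgA]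
    rintro _ ⟨v, rfl⟩
    show K.S.act a (K.S.act a v + v) = K.S.act a v + v
    rw [Space.isom_add hgA, hinvol, add_comm]
  have hlt : Nat.card K.U < Nat.card F := by
    refine lt_of_le_of_ne (AddSubgroup.card_le_of_le hUF) fun e => ?_
    have := AddSubgroup.eq_of_le_of_card_ge hUF e.ge
    rw [← this] at hxF
    exact one_ne_zero (hqx.symm.trans (hUsing xv hxF))
  have hle : Nat.card F ≤ 2 * Nat.card K.U := K.S.card_fix_le K.comm
  have hU16 : Nat.card K.U ≤ 16 := T.card_le_of_singular hUsing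
  have h256 := T.card_perp F
  have hPF := AddSubgroup.card_le_of_le hperp
  have hF16 : 16 ≤ Nat.card F := by
    by_contra hc
    push Not at hc
    nlinarith
  have hU0 : Nat.card K.U = 8 ∨ Nat.card K.U = 16 := by
    obtain ⟨k, hk, e⟩ := (Nat.dvd_prime_pow Nat.prime_two).1
      (show Nat.card K.U ∣ 2 ^ 8 from ⟨_, (T.card_perp K.U).symm⟩)
    rw [e] at hle hU16 hlt ⊢
    interval_cases k <;> simp_all <;> omega
  have hFU : Nat.card F = 2 * Nat.card K.U := by
    obtain ⟨c, hc⟩ := AddSubgroup.card_dvd_of_le hUF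
    have : 2 ≤ c := by
      by_contra hc'
      interval_cases c <;> omega
    rw [hc] at hle ⊢
    nlinarith [T.card_pos K.U]
  rcases hU0 with hU | hU
  swap
  · have hUp : K.U = T.perp K.U := by
      refine AddSubgroup.eq_of_le_of_card_ge (fun u hu w hw => ?_) ?_
      · have := T.q_add u w
        rw [hUsing _ (add_mem hu hw), hUsing u hu, hUsing w hw] at this
        linear_combination -this
      · have := T.card_perp K.U
        rw [hU] at this ⊢
        omega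
    refine T.no_odd_alt hgA hinvol (by rw [← hF]; omega) fun v => hUsing _ ?_
    have h1 : K.S.act a v + v ∈ T.perp F := by rw [hF, ← T.range_dif_eq hgA]; exact ⟨v, rfl⟩
    rw [hUp]
    exact fun u hu => h1 u (hUF hu)
  have hF16' : Nat.card F = 16 := by omega
  have hFp : T.perp F = F := AddSubgroup.eq_of_le_of_card_ge hperp (by
    rw [hF16'] at h256 ⊢; omega)
  have hR16 : Nat.card K.R = 16 := by rw [K.card_R, hU]
  -- commutators of `a` with the core
  let f : G → G := fun q => a * q * a⁻¹ * q⁻¹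
  have hfT : ∀ c, Commute c z → a * c * a⁻¹ * c⁻¹ ∈ K.S.Q → a * c * a⁻¹ * c⁻¹ ∈ K.S.pre F := by
    intro c _ ht
    refine ⟨ht, ?_⟩
    show K.S.act a _ = _
    rw [K.S.act_vc K.comm ht]
    refine (K.S.vc_eq (K.S.conj_mem a K.comm _ ht) ht).2 ?_
    have e : a * (a * c * a⁻¹ * c⁻¹) * a⁻¹ = (a * c * a⁻¹ * c⁻¹)⁻¹ := by
      calc a * (a * c * a⁻¹ * c⁻¹) * a⁻¹ = a * a * c * a⁻¹ * c⁻¹ * a⁻¹ := by group
        _ = c * a * c⁻¹ * a⁻¹ := by rw [haa, one_mul, hai]
        _ = _ := by group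
    rw [e]
    rcases K.S.sq _ ht with r | r
    · exact Or.inl (inv_eq_of_mul_eq_one_right r)
    · right
      refine inv_eq_of_mul_eq_one_right ?_
      rw [← mul_assoc, r, K.S.zz]
  have hfQ : ∀ q ∈ K.S.Q, f q ∈ K.S.pre F := fun q hq =>
    hfT q (K.S.le_cent q hq) (K.S.Q.mul_mem (K.S.conj_mem a K.comm q hq) (K.S.Q.inv_mem hq))
  have hsurj : ∀ t ∈ K.S.pre F, ∃ q ∈ K.S.Q, f q = t := by
    intro t ht
    by_contra hc
    push Not at hc
    classical
    let f' : K.S.Q → {s : K.S.pre F // s ≠ ⟨t, ht⟩} := fun q =>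
      ⟨⟨f q, hfQ q q.2⟩, fun e => hc q q.2 (congrArg Subtype.val e)⟩
    let rep : K.S.Q → K.S.Q := fun q => @Function.invFun _ _ ⟨1⟩ f' (f' q)
    have hrep : ∀ q, f (rep q) = f q := fun q =>
      congrArg (fun s => s.1.1) (@Function.invFun_eq _ _ ⟨1⟩ f' (f' q) ⟨q, rfl⟩)
    let code : K.S.Q → {s : K.S.pre F // s ≠ ⟨t, ht⟩} × K.R := fun q =>
      (f' q, ⟨(rep q : G)⁻¹ * q, K.mem_R.2 ⟨K.S.Q.mul_mem (K.S.Q.inv_mem (rep q).2) q.2, by
        have e : a * rep q * a⁻¹ * (rep q : G)⁻¹ = a * q * a⁻¹ * (q : G)⁻¹ := hrep q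
        refine (conj_id_iff.1 ?_).symm
        calc a * ((rep q : G)⁻¹ * q) * a⁻¹ = (a * rep q * a⁻¹)⁻¹ * (a * q * a⁻¹) := by group
          _ = (a * rep q * a⁻¹ * (rep q : G)⁻¹ * rep q)⁻¹ * (a * q * a⁻¹ * (q : G)⁻¹ * q) := by group
          _ = _ := by rw [e]; group⟩⟩)
    have hcode : Function.Injective code := by
      intro p q e
      simp only [code, Prod.mk.injEq, Subtype.mk.injEq] at e
      have : rep p = rep q := by simp only [rep, e.1]
      refine Subtype.ext ?_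
      have e2 := e.2
      rw [this] at e2
      exact mul_left_cancel e2
    have h1 := Nat.card_le_card_of_injective code hcode
    rw [Nat.card_prod, K.S.card_Q, hR16] at h1
    have h2 : Nat.card {s : K.S.pre F // s ≠ ⟨t, ht⟩} < Nat.card (K.S.pre F) :=
      Finite.card_subtype_lt (x := ⟨t, ht⟩) (fun hn => hn rfl)
    rw [K.S.card_pre, hF16'] at h2
    omega
  have adjust : ∀ c, Commute c z → K.S.act c * K.S.act a = K.S.act a * K.S.act c →
      ∃ d, Commute d z ∧ Commute d a ∧ K.S.act d = K.S.act c := by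
    intro c hc hca
    have hci := hc.inv_left
    have hAc : Commute (a * c * a⁻¹) z := (K.comm.mul_left hc).mul_left K.comm.inv_left
    have ht : a * c * a⁻¹ * c⁻¹ ∈ K.S.Q := by
      refine (K.S.act_eq_one (hAc.mul_left hci)).1 ?_
      have hinv : K.S.act c * K.S.act c⁻¹ = 1 := by
        rw [← K.S.act_mul hc hci, mul_inv_cancel, K.S.act_one]
      have hainv : K.S.act a * K.S.act a⁻¹ = 1 := by
        rw [← K.S.act_mul K.comm K.comm.inv_left, mul_inv_cancel, K.S.act_one]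
      rw [K.S.act_mul hAc hci, K.S.act_mul (K.comm.mul_left hc) K.comm.inv_left, K.S.act_mul K.comm hc,
        ← hca, mul_assoc (K.S.act c), hainv, mul_one, hinv]
    obtain ⟨r, hr, hrt⟩ := hsurj _ (hfT c hc ht)
    have hrz := (K.S.le_cent r hr).inv_left
    refine ⟨r⁻¹ * c, hrz.mul_left hc, ?_, ?_⟩
    · refine (conj_id_iff.1 ?_).symm
      change a * r * a⁻¹ * r⁻¹ = a * c * a⁻¹ * c⁻¹ at hrt
      calc a * (r⁻¹ * c) * a⁻¹ = (a * r * a⁻¹ * r⁻¹ * r)⁻¹ * (a * c * a⁻¹ * c⁻¹ * c) := by group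
        _ = _ := by rw [hrt]; group
    · rw [K.S.act_mul hrz hc, (K.S.act_eq_one hrz).2 (K.S.Q.inv_mem hr), one_mul]
  -- a vector moved into U and not orthogonal to it
  obtain ⟨v, hvU, u, hu, hvu⟩ : ∃ v, K.S.act a v + v ∈ K.U ∧ ∃ u ∈ K.U, T.β v u = 1 := by
    by_contra hc
    push Not at hc
    have hle' : AddSubgroup.comap (T.dif hgA) K.U ≤ T.perp K.U := fun v hv u hu =>
      (zmod2 _).resolve_right (hc v hv u hu)
    have h1 := AddSubgroup.card_le_of_le hle'
    have e := card_eq_inf_ker_mul (T.dif hgA) (AddSubgroup.comap (T.dif hgA) K.U)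
    rw [T.ker_dif hgA, inf_eq_right.2 (fun v hv => by
      show K.S.act a v + v ∈ K.U
      rw [show K.S.act a v = v from hv, T.self]; exact zero_mem _),
      AddSubgroup.map_comap_eq, T.range_dif_eq hgA, ← hF, hFp, inf_eq_right.2 hUF, hF16', hU] at e
    have h2 := T.card_perp K.U
    rw [hU] at h2
    omega
  obtain ⟨q0, hq0, rfl⟩ := K.S.vc_surj v
  have hux : T.β u xv = 0 := by
    have : u ∈ T.perp F := by rw [hFp]; exact hUF hu
    exact this xv hxF
  have hxu : T.β xv u = 0 := by rw [T.β_comm]; exact hux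
  have hwq : T.q (xv + u) = 1 := by rw [T.q_add, hqx, hUsing u hu, hxu, add_zero, add_zero]
  have hwx : T.β (xv + u) xv = 0 := by rw [T.β_add, T.β_self, hux, add_zero]
  have hu0 : u ≠ 0 := fun e => by rw [e, T.β_zero] at hvu; exact zero_ne_one hvu
  have hwne : xv + u ≠ xv := fun e => hu0 (add_eq_left.1 e)
  have hfixing := (K.S.fixing K.hx hxne hxz K.fix).pair_mem hwx hwq hwne
  have hax : K.S.act a xv = xv := hxF
  have hau : K.S.act a u = u := hUF hu
  obtain ⟨c, hcz, hc⟩ := K.S.mem_grp hfixing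
  have hcon : ∀ p, K.S.act a p = p → K.S.act a * T.refl p = T.refl p * K.S.act a := fun p hp => by
    have := T.refl_conj hgA p
    rw [hp] at this
    exact mul_inv_eq_iff_eq_mul.1 this
  obtain ⟨d, hdz, hda, hd⟩ := adjust c hcz (by
    rw [hc, mul_assoc, ← hcon _ (by rw [Space.isom_add hgA, hax, hau]), ← mul_assoc, ← hcon _ hax, mul_assoc])
  -- the commutator
  set t0 := a * q0 * a⁻¹ * q0⁻¹ with ht0
  have ht0Q : t0 ∈ K.S.Q := K.S.Q.mul_mem (K.S.conj_mem a K.comm q0 hq0) (K.S.Q.inv_mem hq0)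
  have ht0R : t0 ∈ K.R := by
    refine mem_or_mul_of_vc K.S K.z_mem_R ht0Q ?_
    have e1 : K.S.vc (a * q0 * a⁻¹) = K.S.vc t0 + K.S.vc q0 := by
      rw [← K.S.vc_mul ht0Q hq0, ht0, inv_mul_cancel_right]
    rw [K.S.act_vc K.comm hq0, e1, T.add_self_right] at hvU
    exact hvU
  obtain ⟨s, hs, hsv⟩ : ∃ s ∈ K.R, K.S.act d (K.S.vc q0) = K.S.vc (q0 * K.x * s) := by
    obtain ⟨r, hr, hrQ, hru⟩ := hu
    have hqx' : q0 * K.x ∈ K.S.Q := K.S.Q.mul_mem hq0 K.hx
    rw [hd, hc, Equiv.Perm.mul_apply, T.refl_apply (xv + u), T.β_add', hvu]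
    rcases zmod2 (T.β (K.S.vc q0) xv) with e | e
    · refine ⟨r, hr, ?_⟩
      rw [e, zero_add, Space.sm_one, T.refl_fix (show T.β (K.S.vc q0 + (xv + u)) xv = 0 by
        rw [T.β_add, e, hwx, add_zero]), K.S.vc_mul hqx' hrQ, K.S.vc_mul hq0 K.hx, hru, ← hxv, add_assoc]
    · refine ⟨1, one_mem _, ?_⟩
      rw [e, show (1 : ZMod 2) + 1 = 0 from rfl, Space.sm_zero', add_zero, T.refl_apply, e, Space.sm_one,
        mul_one, K.S.vc_mul hq0 K.hx]
  obtain ⟨hsQ, hsa⟩ := K.mem_R.1 hs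
  have hzc : ∀ {q}, q ∈ K.S.Q → z * q = q * z := fun hq => (K.S.z_comm hq).symm
  have hcomm : a * (d * q0 * d⁻¹) * a⁻¹ * (d * q0 * d⁻¹)⁻¹ = t0 * z := by
    have hzxa : a * K.x = K.x * z * a := mul_inv_eq_iff_eq_mul.1 hfixm
    have base : a * (q0 * K.x * s) * a⁻¹ = t0 * z * (q0 * K.x * s) := by
      calc a * (q0 * K.x * s) * a⁻¹ = (a * q0 * a⁻¹) * (a * K.x * a⁻¹) * (a * s * a⁻¹) := by group
        _ = (t0 * q0) * (K.x * z) * s := by
          rw [hfixm, conj_id_iff.2 hsa.symm, ht0, inv_mul_cancel_right]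
        _ = t0 * ((q0 * K.x) * z) * s := by group
        _ = _ := by rw [← hzc (K.S.Q.mul_mem hq0 K.hx)]; group
    rw [K.S.act_vc hdz hq0] at hsv
    have hqQ : q0 * K.x * s ∈ K.S.Q := K.S.Q.mul_mem (K.S.Q.mul_mem hq0 K.hx) hsQ
    rcases (K.S.vc_eq (K.S.conj_mem d hdz q0 hq0) hqQ).1 hsv with e | e
    · rw [e, base, mul_inv_cancel_right]
    · rw [e]
      calc a * (q0 * K.x * s * z) * a⁻¹ * (q0 * K.x * s * z)⁻¹
          = (a * (q0 * K.x * s) * a⁻¹) * (a * z * a⁻¹) * z⁻¹ * (q0 * K.x * s)⁻¹ := by group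
        _ = _ := by rw [base, conj_id_iff.2 K.comm, mul_inv_cancel_right, mul_inv_cancel_right]
  refine hncomm d t0 hda (K.mem_R.1 ht0R).2 ?_
  have e : d * t0 * d⁻¹ = a * (d * q0 * d⁻¹) * a⁻¹ * (d * q0 * d⁻¹)⁻¹ := by
    calc d * t0 * d⁻¹ = (d * a * d⁻¹) * (d * q0 * d⁻¹) * (d * a * d⁻¹)⁻¹ * (d * q0 * d⁻¹)⁻¹ := by
          rw [ht0]; group
      _ = _ := by rw [conj_id_iff.2 hda]
  rw [e, hcomm, ← hzc ht0Q, mul_inv_cancel_right]

end Conf

end Cfsg.Agent.CoTwoType
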