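import Cfsg.Agent.Lib.Linear.Symplectic
import Cfsg.Agent.Lib.Multiplier.Sp6Mat

/-
Two facts on Sp6(2) (helper33).

* `center_bot` ; `abelian_normal_bot` : no nontrivial abelian normal subgroup
-/

set_option autoImplicit false
set_option linter.style.haveILetI false

namespace Cfsg.Agent.CoTwoType.CaseR

open Cfsg.Agent.Multiplier.Sp6 Cfsg.Agent.Linear Matrix

theorem center_bot : Subgroup.center G0 = ⊥ := by
  rw [eq_bot_iff]
  intro g hg
  have h1 : spEquiv 3 (ZMod 2) g = 1 := by
    set k := spEquiv 3 (ZMod 2) g with hk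
    refine spGL_ext fun v => ?_
    rw [one_smul]
    have hc : k * spTv v (1 : ZMod 2) * k⁻¹ = spTv v (1 : ZMod 2) := by
      have := Subgroup.mem_center_iff.1 hg ((spEquiv 3 (ZMod 2)).symm (spTv v 1))
      have h2 := congrArg (spEquiv 3 (ZMod 2)) this
      rw [map_mul, map_mul, MulEquiv.apply_symm_apply, ← hk] at h2
      rw [← h2, mul_inv_cancel_right]
    rw [spTv_conj] at hc
    by_cases hv : v = 0
    · subst hv
      rw [spGL_smul_eq, Matrix.mulVec_zero]
    obtain ⟨w, hw⟩ := exists_sympForm_ne_zero hv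
    have hkv : k • v ≠ 0 := fun h => hv ((smul_eq_zero_iff_eq k).1 h)
    have e := congrArg (fun t => t • w) hc
    simp only [spTv_smul, add_right_inj] at e
    have hw' : Cfsg.sympForm 3 (ZMod 2) w v ≠ 0 := by
      rw [sympForm_swap]; exact neg_ne_zero.2 hw
    have one : ∀ a : ZMod 2, a ≠ 0 → a = 1 := by decide
    rw [one _ hw', mul_one, one_smul] at e
    by_cases h0 : Cfsg.sympForm 3 (ZMod 2) w (k • v) = 0
    · exfalso
      rw [h0, mul_zero, zero_smul] at e
      exact hv e.symm
    · rwa [one _ h0, mul_one, one_smul] at e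
  exact Subgroup.mem_bot.2 ((spEquiv 3 (ZMod 2)).injective (by rw [h1, map_one]))

theorem simple_sp6 : IsSimpleGroup G0 := by
  haveI := isSimpleGroup_PSp (m := 3) (F := ZMod 2) (by norm_num) (Or.inr (Or.inr le_rfl))
  let e : G0 ≃* Cfsg.PSp 3 (ZMod 2) :=
    (QuotientGroup.quotientBot (G := G0)).symm.trans (QuotientGroup.quotientMulEquivOfEq center_bot.symm)
  haveI : Nontrivial G0 := e.toEquiv.nontrivial
  exact IsSimpleGroup.isSimpleGroup_of_surjective e.symm.toMonoidHom e.symm.surjective

theorem abelian_normal_bot (N : Subgroup G0) [hN : N.Normal] (hc : ∀ a ∈ N, ∀ b ∈ N, a * b = b * a) :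
    N = ⊥ := by
  haveI := simple_sp6
  rcases hN.eq_bot_or_eq_top with h | h
  · exact h
  · exfalso
    have : (⊤ : Subgroup G0) ≤ Subgroup.center G0 := fun a _ => Subgroup.mem_center_iff.2 fun b =>
      hc b (h ▸ trivial) a (h ▸ trivial)
    rw [center_bot, top_le_iff] at this
    exact bot_ne_top this

end Cfsg.Agent.CoTwoType.CaseR
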