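import Cfsg.Agent.Lib.CoTwoType.CaseR.Refl
import Cfsg.Agent.Lib.CoTwoType.CaseR.Sp6Facts
import Cfsg.Agent.Lib.Forms.Symplectic

/-
A copy of Sp6(2) fixing a vector of an orthogonal space of order 256 (helper33).

* `Fixing` : the setting; `kernel_trivial`; `exists_trans` : every transvection of the quotient is induced
-/

set_option autoImplicit false
set_option linter.style.haveILetI false

namespace Cfsg.Agent.CoTwoType.CaseR

open Cfsg.Agent.Multiplier.Sp6 Cfsg.Agent.Linear Space Matrix

variable {V : Type*} [AddCommGroup V]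

/-- Sp6(2) inside the isometries fixing a nonzero vector. -/
structure Fixing (S : Space V) (x : V) where
  /-- The group. -/
  H : Subgroup (Equiv.Perm V)
  le : H ≤ S.isom
  fix : ∀ h ∈ H, h x = x
  ne : x ≠ 0
  /-- The identification. -/
  e : ↥H ≃* G0

namespace Fixing

variable {S : Space V} {x : V} (F : Fixing S x)

include F

theorem β_fix {h : Equiv.Perm V} (hh : h ∈ F.H) (u : V) : S.β (h u) x = S.β u x := by
  conv_lhs => rw [show x = h x from (F.fix h hh).symm]
  exact isom_β (F.le hh) u x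

/-- An element trivial on the orthogonal of `x` modulo `x` is the identity. -/
theorem kernel_trivial {h : Equiv.Perm V} (hh : h ∈ F.H)
    (hs : ∀ u, S.β u x = 0 → h u = u ∨ h u = u + x) : h = 1 := by
  let N : Subgroup ↥F.H :=
    { carrier := {g | ∀ u, S.β u x = 0 → (g : Equiv.Perm V) u = u ∨ (g : Equiv.Perm V) u = u + x}
      one_mem' := fun u _ => Or.inl rfl
      mul_mem' := fun {a b} ha hb u hu => by
        show (a : Equiv.Perm V) ((b : Equiv.Perm V) u) = u ∨ (a : Equiv.Perm V) ((b : Equiv.Perm V) u) = u + x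
        rcases hb u hu with e | e <;> rw [e]
        · exact ha u hu
        · rw [isom_add (F.le a.2), F.fix _ a.2]
          rcases ha u hu with e' | e' <;> rw [e']
          · exact Or.inr rfl
          · exact Or.inl (S.add_self_right u x)
      inv_mem' := fun {a} ha u hu => by
        have ha0 := ha
        show (a : Equiv.Perm V)⁻¹ u = u ∨ (a : Equiv.Perm V)⁻¹ u = u + x
        rcases ha0 u hu with e | e
        · left; rw [Equiv.Perm.inv_eq_iff_eq, e]
        · right
          rw [Equiv.Perm.inv_eq_iff_eq, isom_add (F.le a.2), F.fix _ a.2, e, S.add_self_right] }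
  haveI : N.Normal := ⟨fun n hn g u hu => by
    obtain ⟨u', rfl⟩ := (g : Equiv.Perm V).surjective u
    have hu' : S.β u' x = 0 := by
      rw [← isom_β (F.le g.2) u' x, F.fix _ g.2]; exact hu
    simp only [Subgroup.coe_mul, Subgroup.coe_inv, Equiv.Perm.mul_apply, Equiv.Perm.inv_def,
      Equiv.symm_apply_apply]
    rcases hn u' hu' with e | e <;> rw [e]
    · exact Or.inl rfl
    · right; rw [isom_add (F.le g.2), F.fix _ g.2]⟩
  haveI : (N.map F.e.toMonoidHom).Normal := Subgroup.Normal.map inferInstance _ F.e.surjective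
  have hab : ∀ a ∈ N.map F.e.toMonoidHom, ∀ b ∈ N.map F.e.toMonoidHom, a * b = b * a := by
    rintro _ ⟨a, ha, rfl⟩ _ ⟨b, hb, rfl⟩
    rw [← map_mul, ← map_mul]
    congr 1
    exact Subtype.ext (S.shear_comm F.ne (F.le a.2) (F.le b.2) (F.fix _ a.2) (F.fix _ b.2) ha hb)
  have hbot := abelian_normal_bot _ hab
  have : F.e ⟨h, hh⟩ ∈ N.map F.e.toMonoidHom := ⟨⟨h, hh⟩, hs, rfl⟩
  rw [hbot, Subgroup.mem_bot, ← map_one F.e] at this
  exact congrArg Subtype.val (F.e.injective this)

/-- Every transvection of the quotient is induced. -/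
theorem exists_trans {w : V} (hw : S.β w x = 0) :
    ∃ h ∈ F.H, ∀ u, S.β u x = 0 →
      h u = u + sm (S.β u w) w ∨ h u = u + sm (S.β u w) w + x := by
  haveI := S.fin
  obtain ⟨v0, hv0⟩ := S.exists_eq_one F.ne
  have hxx := S.β_self x
  have hvv := S.β_self v0
  let K : AddSubgroup V := S.perp1 x ⊓ S.perp1 v0
  set π : V → V := fun v => v + sm (S.β v v0) x + sm (S.β v x) v0 with hπ
  have hπK : ∀ v, π v ∈ K := by
    intro v
    refine ⟨?_, ?_⟩
    · show S.β (π v) x = 0
      simp only [hπ, S.β_add, S.β_sm, hxx, S.β_comm v0 x, hv0]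
      generalize S.β v x = a; generalize S.β v v0 = b; revert a b; decide
    · show S.β (π v) v0 = 0
      simp only [hπ, S.β_add, S.β_sm, hvv, hv0]
      generalize S.β v x = a; generalize S.β v v0 = b; revert a b; decide
  have hπu : ∀ u, S.β u x = 0 → π u = u + sm (S.β u v0) x := fun u hu => by
    simp only [hπ, hu, sm_zero', add_zero]
  have hβπ : ∀ u u', S.β u x = 0 → S.β u' x = 0 → S.β (π u) (π u') = S.β u u' := by
    intro u u' hu hu'
    rw [hπu u hu, hπu u' hu']
    simp only [S.β_add, S.β_add', S.β_sm, S.β_sm', hu, hxx, S.β_comm x u', hu', mul_zero, add_zero]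
  have hKc : Nat.card K = 64 := by
    have h1 := S.half (S.perp1 x) v0
    rw [S.card_perp1 F.ne] at h1
    have h2 : Nat.card K < 128 := by
      rw [← S.card_perp1 F.ne]
      refine lt_of_le_of_ne (AddSubgroup.card_le_of_le inf_le_left) fun e => ?_
      have := AddSubgroup.eq_of_le_of_card_ge (inf_le_left : K ≤ S.perp1 x) e.ge
      have hx : x ∈ S.perp1 x ⊓ S.perp1 v0 := by rw [this]; exact hxx
      exact one_ne_zero (hv0.symm.trans (hx.2 : S.β x v0 = 0))
    have hd : Nat.card K ∣ 2 ^ 8 := ⟨_, (S.card_perp K).symm⟩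
    obtain ⟨k, hk, e⟩ := (Nat.dvd_prime_pow Nat.prime_two).1 hd
    change 128 ≤ 2 * Nat.card K at h1
    rw [e] at h1 h2 ⊢
    interval_cases k <;> simp_all
  letI : Module (ZMod 2) V := AddCommGroup.zmodModule (n := 2) fun v => by rw [two_nsmul]; exact S.self v
  let KS : Submodule (ZMod 2) V := AddSubgroup.toZModSubmodule 2 K
  let B : LinearMap.BilinForm (ZMod 2) KS := LinearMap.mk₂ (ZMod 2) (fun a b => S.β a b)
    (fun a b c => S.β_add a b c)
    (fun c a b => by rcases zmod2 c with rfl | rfl <;> simp [S.zero_β])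
    (fun a b c => S.β_add' a b c)
    (fun c a b => by rcases zmod2 c with rfl | rfl <;> simp [S.β_zero])
  obtain ⟨m, k, c, hc⟩ := Forms.exists_symplectic_equiv B (fun a => S.β_self a)
  have hdec : ∀ v : V, v = π v + sm (S.β v v0) x + sm (S.β v x) v0 := fun v => by
    simp only [hπ]
    generalize sm (S.β v v0) x = a; generalize sm (S.β v x) v0 = b
    rw [show v + a + b + a + b = v + (a + a) + (b + b) by abel, S.self, S.self, add_zero, add_zero]
  have hKnd : ∀ a : KS, (∀ b : KS, B a b = 0) → a = 0 := by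
    intro a ha
    refine Subtype.ext (S.nondeg _ fun v => ?_)
    have hax : S.β (a : V) x = 0 := a.2.1
    have hav : S.β (a : V) v0 = 0 := a.2.2
    have hb : S.β (a : V) (π v) = 0 := ha ⟨π v, hπK v⟩
    rw [hdec v, S.β_add', S.β_add', hb, S.β_sm', S.β_sm', hax, hav]
    simp
  have hk : k = 0 := by
    by_contra hk0
    have i0 : Fin k := ⟨0, Nat.pos_of_ne_zero hk0⟩
    have h0 := hKnd (c (Pi.single (Sum.inr i0) 1)) fun b => by
      obtain ⟨y, rfl⟩ := c.surjective b
      rw [hc]
      simp [Forms.altStd]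
    have := c.injective (h0.trans (map_zero c).symm)
    simpa using congrFun this (Sum.inr i0)
  subst hk
  have hm : m = 3 := by
    have h1 : Nat.card ((Fin m ⊕ Fin m) ⊕ Fin 0 → ZMod 2) = Nat.card KS := Nat.card_congr c.toEquiv
    rw [Nat.card_fun, Nat.card_zmod, Nat.card_eq_fintype_card, Fintype.card_sum, Fintype.card_sum,
      Fintype.card_fin, Fintype.card_fin] at h1
    have h2 : 2 ^ (m + m + 0) = 2 ^ 6 := h1.trans hKc
    have := Nat.pow_right_injective le_rfl h2
    omega
  subst hm
  -- coordinates with respect to the standard form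
  let c' : (Fin 3 ⊕ Fin 3 → ZMod 2) ≃ₗ[ZMod 2] KS :=
    (LinearEquiv.funCongrLeft (ZMod 2) (ZMod 2) (Equiv.sumEmpty (Fin 3 ⊕ Fin 3) (Fin 0))).trans c
  have hc' : ∀ a b, S.β (c' a : V) (c' b : V) = Cfsg.sympForm 3 (ZMod 2) a b := fun a b => by
    have h := hc (LinearEquiv.funCongrLeft (ZMod 2) (ZMod 2) (Equiv.sumEmpty (Fin 3 ⊕ Fin 3) (Fin 0)) a)
      (LinearEquiv.funCongrLeft (ZMod 2) (ZMod 2) (Equiv.sumEmpty (Fin 3 ⊕ Fin 3) (Fin 0)) b)
    refine (show S.β (c' a : V) (c' b : V) = _ from h).trans ?_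
    rw [sympForm_eq_sum, Forms.altStd]
    refine Finset.sum_congr rfl fun i _ => ?_
    simp [LinearEquiv.funCongrLeft]
    generalize a (Sum.inl i) = p; generalize a (Sum.inr i) = p'
    generalize b (Sum.inl i) = q; generalize b (Sum.inr i) = q'
    revert p p' q q'; decide
  let Iso := {φ : KS →+ KS // ∀ a b, S.β (φ a : V) (φ b : V) = S.β (a : V) (b : V)}
  let mat : Iso → G0 := fun φ =>
    ⟨LinearMap.toMatrix' ((c'.symm.toLinearMap.comp ((φ.1.toZModLinearMap 2).comp c'.toLinearMap))), by
      refine mem_symplecticGroup_iff.2 fun a b => ?_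
      simp only [← Matrix.toLin'_apply, Matrix.toLin'_toMatrix']
      show Cfsg.sympForm 3 (ZMod 2) (c'.symm (φ.1 (c' a))) (c'.symm (φ.1 (c' b))) = _
      rw [← hc', ← hc', c'.apply_symm_apply, c'.apply_symm_apply, φ.2]⟩
  have hmat : Function.Injective mat := fun φ ψ h => by
    refine Subtype.ext (AddMonoidHom.ext fun a => ?_)
    obtain ⟨y, rfl⟩ := c'.surjective a
    have h1 := congrArg (fun M : G0 => Matrix.toLin' M.1 y) h
    simp only [mat, Matrix.toLin'_toMatrix'] at h1
    exact c'.symm.injective h1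
  let res : ↥F.H → Iso := fun g => ⟨AddMonoidHom.mk' (fun a => ⟨π ((g : Equiv.Perm V) a), hπK _⟩)
    (fun a b => Subtype.ext (by
      show π ((g : Equiv.Perm V) (a + b : V)) = π ((g : Equiv.Perm V) a) + π ((g : Equiv.Perm V) b)
      simp only [hπ, isom_add (F.le g.2), S.β_add, S.sm_add]
      abel)), fun a b => by
      show S.β (π _) (π _) = _
      have hx : ∀ d : KS, S.β ((g : Equiv.Perm V) d) x = 0 := fun d => by
        rw [F.β_fix g.2]; exact d.2.1
      rw [hβπ _ _ (hx a) (hx b), isom_β (F.le g.2)]⟩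
  have hres : Function.Injective res := by
    intro g g' h
    have key : ∀ u, S.β u x = 0 → (g : Equiv.Perm V) u = (g' : Equiv.Perm V) u ∨
        (g : Equiv.Perm V) u = (g' : Equiv.Perm V) u + x := by
      intro u hu
      have hK' : π u ∈ K := hπK u
      have e1 : π ((g : Equiv.Perm V) (π u)) = π ((g' : Equiv.Perm V) (π u)) :=
        congrArg (fun φ : Iso => ((φ.1 ⟨π u, hK'⟩ : KS) : V)) h
      have hgx : ∀ f : ↥F.H, S.β ((f : Equiv.Perm V) (π u)) x = 0 := fun f => by
        rw [F.β_fix f.2]; exact hK'.1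
      rw [hπu _ (hgx g), hπu _ (hgx g')] at e1
      have hu' : u = π u + sm (S.β u v0) x := by
        conv_lhs => rw [hdec u, hu, sm_zero', add_zero]
      rw [hu', isom_add (F.le g.2), isom_add (F.le g'.2)]
      have fx : ∀ f : ↥F.H, (f : Equiv.Perm V) (sm (S.β u v0) x) = sm (S.β u v0) x := fun f => by
        rcases zmod2 (S.β u v0) with a | a <;> rw [a]
        · rw [sm_zero', isom_zero (F.le f.2)]
        · rw [sm_one, F.fix _ f.2]
      rw [fx, fx]
      rcases zmod2 (S.β ((g : Equiv.Perm V) (π u)) v0) with a | a <;>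
        rcases zmod2 (S.β ((g' : Equiv.Perm V) (π u)) v0) with b | b <;>
        simp only [a, b, sm_zero', sm_one, add_zero] at e1
      · exact Or.inl (by rw [e1])
      · exact Or.inr (by rw [e1]; abel)
      · refine Or.inr ?_
        rw [← e1, show ((g : Equiv.Perm V) (π u) + x + sm (S.β u v0) x + x) =
          (g : Equiv.Perm V) (π u) + sm (S.β u v0) x + (x + x) by abel, S.self, add_zero]
      · exact Or.inl (by rw [add_right_cancel e1])
    refine Subtype.ext (inv_mul_eq_one.1 (F.kernel_trivial (mul_mem (inv_mem g'.2) g.2) fun u hu => ?_)).symm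
    simp only [Equiv.Perm.mul_apply]
    rcases key u hu with e | e <;> rw [e]
    · left; simp
    · right
      rw [isom_add (inv_mem (F.le g'.2))]
      simp [F.fix _ (inv_mem g'.2)]
  haveI : Finite G0 := Nat.finite_of_card_ne_zero (by rw [natCard_sp6]; norm_num)
  have hbij : Function.Bijective (mat ∘ res) :=
    (Nat.bijective_iff_injective_and_card _).2 ⟨hmat.comp hres, Nat.card_congr F.e.toEquiv⟩
  set kw := π w with hkw
  have hkwK : kw ∈ K := hπK w
  let φw : Iso := ⟨AddMonoidHom.mk'
      (fun a : KS => (⟨(a : V) + sm (S.β (a : V) kw) kw, add_mem a.2 (by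
        rcases zmod2 (S.β (a : V) kw) with e | e <;> rw [e]
        · rw [sm_zero']; exact zero_mem _
        · rw [sm_one]; exact hkwK)⟩ : KS))
      (fun a b => Subtype.ext (by
        show (a + b : V) + sm (S.β (a + b : V) kw) kw = _
        rw [S.β_add, S.sm_add]
        show _ = ((a : V) + sm (S.β (a : V) kw) kw) + ((b : V) + sm (S.β (b : V) kw) kw)
        abel)), fun a b => by
      show S.β ((a : V) + sm (S.β (a : V) kw) kw) ((b : V) + sm (S.β (b : V) kw) kw) = _
      simp only [S.β_add, S.β_add', S.β_sm, S.β_sm', S.β_self, S.β_comm kw (b : V)]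
      generalize S.β (a : V) kw = p; generalize S.β (b : V) kw = q; generalize S.β (a : V) (b : V) = r
      revert p q r; decide⟩
  obtain ⟨g, hg⟩ := hbij.2 (mat φw)
  have hgφ : res g = φw := hmat hg
  refine ⟨g, g.2, fun u hu => ?_⟩
  have e1 : π ((g : Equiv.Perm V) (π u)) = π u + sm (S.β (π u) kw) kw :=
    congrArg (fun φ : Iso => ((φ.1 ⟨π u, hπK u⟩ : KS) : V)) hgφ
  have hb : S.β (π u) kw = S.β u w := hβπ u w hu hw
  rw [hb, hkw, hπu w hw] at e1
  have hgx : S.β ((g : Equiv.Perm V) (π u)) x = 0 := by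
    rw [F.β_fix g.2]; exact (hπK u).1
  rw [hπu _ hgx] at e1
  have hu' : u = π u + sm (S.β u v0) x := by
    conv_lhs => rw [hdec u, hu, sm_zero', add_zero]
  have e2 : (g : Equiv.Perm V) u = (g : Equiv.Perm V) (π u) + sm (S.β u v0) x := by
    conv_lhs => rw [hu', isom_add (F.le g.2)]
    rcases zmod2 (S.β u v0) with a | a <;> rw [a]
    · rw [sm_zero', isom_zero (F.le g.2)]
    · rw [sm_one, F.fix _ g.2]
  rw [e2]
  have e3 : (g : Equiv.Perm V) (π u) =
      π u + sm (S.β u w) (w + sm (S.β w v0) x) + sm (S.β ((g : Equiv.Perm V) (π u)) v0) x := by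
    rw [← e1, S.add_self_right]
  rw [e3, hπu u hu]
  have hsm : ∀ b d : ZMod 2, sm b (w + sm d x) = sm b w + sm (b * d) x := fun b d => by
    rcases zmod2 b with rfl | rfl <;> rcases zmod2 d with rfl | rfl <;> simp [sm_zero', sm_one]
  rw [hsm]
  set f := S.β u w * S.β w v0 + S.β ((g : Equiv.Perm V) (u + sm (S.β u v0) x)) v0 with hf
  have hfin : ∀ A B C D : V, u + A + (B + C) + D + A = u + B + (C + D) := fun A B C D => by
    rw [show u + A + (B + C) + D + A = u + B + (C + D) + (A + A) by abel, S.self, add_zero]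
  rw [hfin, ← S.sm_add, ← hf]
  rcases zmod2 f with e | e <;> rw [e]
  · left; rw [sm_zero', add_zero]
  · right; rw [sm_one]

end Fixing

end Cfsg.Agent.CoTwoType.CaseR
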