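import Cfsg.Agent.Lib.CoTwoType.Quot
import Cfsg.Agent.Lib.CoTwoType.CaseR.Conj
import Cfsg.Agent.Lib.CoTwoType.CaseR.Surj

/-
The core modulo the centre as an orthogonal space with the action of the centraliser (helper33).

* `Setup.vc`, `Setup.space`, `Setup.act`, `Setup.act_eq_one`, `Setup.grp`, `Setup.fixing`
* `Setup.img`, `Setup.card_img`, `card_le_two_inf`
-/

set_option autoImplicit false
set_option linter.style.haveILetI false

namespace Cfsg.Agent.CoTwoType

open Cfsg.Agent.Multiplier.Sp6 CaseR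

universe u

variable {G : Type u} [Group G] {z : G}

theorem card_le_two_inf [Finite G] (T : Subgroup G) (a b : G)
    (h : ∀ q ∈ T, q * a * q⁻¹ = a ∨ q * a * q⁻¹ = b) :
    Nat.card T ≤ 2 * Nat.card (T ⊓ Subgroup.centralizer ({a} : Set G) : Subgroup G) := by
  classical
  by_cases hall : ∀ q ∈ T, q * a * q⁻¹ = a
  · have : T ≤ T ⊓ Subgroup.centralizer ({a} : Set G) := fun q hq =>
      ⟨hq, mem_cent_iff.2 (mul_inv_eq_iff_eq_mul.1 (hall q hq))⟩
    have := Subgroup.card_le_of_le this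
    omega
  push Not at hall
  obtain ⟨q0, hq0, hne⟩ := hall
  have hb : q0 * a * q0⁻¹ = b := (h q0 hq0).resolve_left hne
  let f : T → (T ⊓ Subgroup.centralizer ({a} : Set G) : Subgroup G) × Bool := fun q =>
    if hc : (q : G) * a * (q : G)⁻¹ = a then (⟨q, q.2, mem_cent_iff.2 (mul_inv_eq_iff_eq_mul.1 hc)⟩, false)
    else (⟨q0⁻¹ * q, T.mul_mem (T.inv_mem hq0) q.2, mem_cent_iff.2 (mul_inv_eq_iff_eq_mul.1 (by
      have e := ((h q q.2).resolve_left hc).trans hb.symm
      calc q0⁻¹ * q * a * (q0⁻¹ * q)⁻¹ = q0⁻¹ * (q * a * (q : G)⁻¹) * q0 := by group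
        _ = a := by rw [e]; group))⟩, true)
  have hf : Function.Injective f := by
    intro q r e
    simp only [f] at e
    split_ifs at e with h1 h2 h2
    · exact Subtype.ext (congrArg (fun p => (p.1 : G)) e)
    · exact absurd (congrArg Prod.snd e) (by simp)
    · exact absurd (congrArg Prod.snd e) (by simp)
    · exact Subtype.ext (mul_left_cancel (congrArg (fun p => (p.1 : G)) e))
  have := Nat.card_le_card_of_injective f hf
  rw [Nat.card_prod, show Nat.card Bool = 2 by simp] at this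
  omega

namespace Setup

variable (S : Setup z)

include S

theorem z_ne : z ≠ 1 := fun h => by
  have := S.z_ord
  rw [h, orderOf_one] at this
  norm_num at this

theorem zz : z * z = 1 := z_sq S.z_ord

theorem z_inv : z⁻¹ = z := inv_eq_of_mul_eq_one_right S.zz

theorem self_ne_mul_z (a : G) : a ≠ a * z := fun h => S.z_ne (mul_eq_left.1 h.symm)

/-- The coordinates. -/
noncomputable def vc (a : G) : S.Vz :=
  @dite _ (a ∈ S.Q) (Classical.propDecidable _) (fun h => S.pr ⟨a, h⟩) fun _ => 0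

theorem vc_coe (a : ↥S.Q) : S.vc a = S.pr a := by
  rw [vc, dif_pos a.2]

theorem vc_mul {a b : G} (ha : a ∈ S.Q) (hb : b ∈ S.Q) : S.vc (a * b) = S.vc a + S.vc b := by
  rw [S.vc_coe ⟨a, ha⟩, S.vc_coe ⟨b, hb⟩, S.vc_coe ⟨a * b, mul_mem ha hb⟩, ← S.pr_mul]; rfl

theorem vc_one : S.vc 1 = 0 := S.vc_coe 1

theorem vc_surj (v : S.Vz) : ∃ a ∈ S.Q, S.vc a = v := by
  obtain ⟨a, rfl⟩ := S.pr_surjective v
  exact ⟨a, a.2, S.vc_coe a⟩

theorem vc_eq {a b : G} (ha : a ∈ S.Q) (hb : b ∈ S.Q) : S.vc a = S.vc b ↔ (a = b ∨ a = b * z) := by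
  rw [S.vc_coe ⟨a, ha⟩, S.vc_coe ⟨b, hb⟩, S.pr_eq]; rfl

theorem vc_eq_zero {a : G} (ha : a ∈ S.Q) : S.vc a = 0 ↔ (a = 1 ∨ a = z) := by
  rw [← S.vc_one, S.vc_eq ha (one_mem _), one_mul]

theorem vc_z : S.vc z = 0 := (S.vc_eq_zero S.z_mem).2 (Or.inr rfl)

theorem z_comm {a : G} (ha : a ∈ S.Q) : a * z = z * a := (S.le_cent a ha).eq

open Classical in
/-- The square of a lift. -/
noncomputable def qv (v : S.Vz) : ZMod 2 :=
  if (S.vc_surj v).choose * (S.vc_surj v).choose = 1 then 0 else 1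

open Classical in
/-- The commutator of lifts. -/
noncomputable def bv (v w : S.Vz) : ZMod 2 :=
  if Commute (S.vc_surj v).choose (S.vc_surj w).choose then 0 else 1

theorem mul_z_comm_iff {a b : G} (hb : b ∈ S.Q) : Commute (a * z) b ↔ Commute a b := by
  constructor
  · intro h
    have := h.mul_left ((S.le_cent b hb).symm)
    rwa [mul_assoc, S.zz, mul_one] at this
  · exact fun h => h.mul_left (S.le_cent b hb).symm

open Classical in
theorem qv_vc {a : G} (ha : a ∈ S.Q) : S.qv (S.vc a) = if a * a = 1 then 0 else 1 := by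
  obtain ⟨hb, e⟩ := (S.vc_surj (S.vc a)).choose_spec
  rw [qv]
  rcases (S.vc_eq hb ha).1 e with h | h <;> rw [h]
  rw [show a * z * (a * z) = a * a * (z * z) by
    calc a * z * (a * z) = a * (z * a) * z := by group
      _ = a * (a * z) * z := by rw [S.z_comm ha]
      _ = _ := by group, S.zz, mul_one]

open Classical in
theorem bv_vc {a b : G} (ha : a ∈ S.Q) (hb : b ∈ S.Q) :
    S.bv (S.vc a) (S.vc b) = if Commute a b then 0 else 1 := by
  obtain ⟨ha', e⟩ := (S.vc_surj (S.vc a)).choose_spec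
  obtain ⟨hb', e'⟩ := (S.vc_surj (S.vc b)).choose_spec
  rw [bv]
  have h1 : Commute (S.vc_surj (S.vc a)).choose (S.vc_surj (S.vc b)).choose ↔
      Commute a (S.vc_surj (S.vc b)).choose := by
    rcases (S.vc_eq ha' ha).1 e with h | h <;> rw [h]
    exact S.mul_z_comm_iff hb'
  have h2 : Commute a (S.vc_surj (S.vc b)).choose ↔ Commute a b := by
    rcases (S.vc_eq hb' hb).1 e' with h | h <;> rw [h]
    exact ⟨fun h => ((S.mul_z_comm_iff ha).1 h.symm).symm, fun h => ((S.mul_z_comm_iff ha).2 h.symm).symm⟩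
  simp only [h1.trans h2]

theorem qv_eq_zero {a : G} (ha : a ∈ S.Q) : S.qv (S.vc a) = 0 ↔ a * a = 1 := by
  rw [S.qv_vc ha]; split_ifs with h <;> simp [h]

theorem qv_eq_one {a : G} (ha : a ∈ S.Q) : S.qv (S.vc a) = 1 ↔ a * a = z := by
  rw [S.qv_vc ha]
  split_ifs with h
  · simp [h, Ne.symm S.z_ne]
  · simp [(S.sq a ha).resolve_left h]

theorem bv_eq_zero {a b : G} (ha : a ∈ S.Q) (hb : b ∈ S.Q) : S.bv (S.vc a) (S.vc b) = 0 ↔ Commute a b := by
  rw [S.bv_vc ha hb]; split_ifs with h <;> simp [h]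

theorem bv_eq_one {a b : G} (ha : a ∈ S.Q) (hb : b ∈ S.Q) :
    S.bv (S.vc a) (S.vc b) = 1 ↔ a * b = b * a * z := by
  rw [S.bv_vc ha hb]
  split_ifs with h
  · simp [h.eq, S.self_ne_mul_z]
  · simp [(S.comm a ha b hb).resolve_left h]

theorem qv_add (v w : S.Vz) : S.qv (v + w) = S.qv v + S.qv w + S.bv v w := by
  obtain ⟨a, ha, rfl⟩ := S.vc_surj v
  obtain ⟨b, hb, rfl⟩ := S.vc_surj w
  rw [← S.vc_mul ha hb, S.qv_vc (mul_mem ha hb), S.qv_vc ha, S.qv_vc hb, S.bv_vc ha hb]
  have hz1 := S.z_ne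
  have hzz := S.zz
  rcases S.comm a ha b hb with h | h
  · have e : a * b * (a * b) = a * a * (b * b) := by
      calc a * b * (a * b) = a * (b * a) * b := by group
        _ = a * (a * b) * b := by rw [h]
        _ = _ := by group
    rw [e]
    rcases S.sq a ha with x | x <;> rcases S.sq b hb with y | y <;>
      simp [x, y, show Commute a b from h, hz1, hzz] <;> decide
  · have hba : b * a = a * b * z := by rw [h, mul_assoc, S.zz, mul_one]
    have e : a * b * (a * b) = a * a * (b * b) * z := by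
      calc a * b * (a * b) = a * (b * a) * b := by group
        _ = a * (a * b * z) * b := by rw [hba]
        _ = a * a * b * (z * b) := by group
        _ = a * a * b * (b * z) := by rw [S.z_comm hb]
        _ = _ := by group
    rw [e]
    have hn : ¬ Commute a b := fun hc => S.self_ne_mul_z (b * a) (hc.eq.symm.trans h)
    rcases S.sq a ha with x | x <;> rcases S.sq b hb with y | y <;>
      simp [x, y, hn, hz1, hzz] <;> decide

theorem bv_add (u v w : S.Vz) : S.bv (u + v) w = S.bv u w + S.bv v w := by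
  obtain ⟨a, ha, rfl⟩ := S.vc_surj u
  obtain ⟨b, hb, rfl⟩ := S.vc_surj v
  obtain ⟨c, hc, rfl⟩ := S.vc_surj w
  rw [← S.vc_mul ha hb]
  rcases S.comm a ha c hc with h | h <;> rcases S.comm b hb c hc with k | k
  · rw [(S.bv_eq_zero ha hc).2 h, (S.bv_eq_zero hb hc).2 k, add_zero,
      (S.bv_eq_zero (mul_mem ha hb) hc).2 ((show Commute a c from h).mul_left k)]
  · rw [(S.bv_eq_zero ha hc).2 h, (S.bv_eq_one hb hc).2 k, zero_add, (S.bv_eq_one (mul_mem ha hb) hc).2]
    calc a * b * c = a * (b * c) := by group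
      _ = (a * c) * b * z := by rw [k]; group
      _ = _ := by rw [h]; group
  · rw [(S.bv_eq_one ha hc).2 h, (S.bv_eq_zero hb hc).2 k, add_zero, (S.bv_eq_one (mul_mem ha hb) hc).2]
    calc a * b * c = a * (b * c) := by group
      _ = (a * c) * b := by rw [k]; group
      _ = c * a * (z * b) := by rw [h]; group
      _ = _ := by rw [← S.z_comm hb]; group
  · rw [(S.bv_eq_one ha hc).2 h, (S.bv_eq_one hb hc).2 k, show (1 : ZMod 2) + 1 = 0 from rfl,
      (S.bv_eq_zero (mul_mem ha hb) hc).2]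
    show a * b * c = c * (a * b)
    calc a * b * c = a * (b * c) := by group
      _ = (a * c) * b * z := by rw [k]; group
      _ = c * a * (z * b) * z := by rw [h]; group
      _ = c * a * b * (z * z) := by rw [← S.z_comm hb]; group
      _ = _ := by rw [S.zz]; group

theorem bv_nondeg (x : S.Vz) (h : ∀ y, S.bv x y = 0) : x = 0 := by
  obtain ⟨a, ha, rfl⟩ := S.vc_surj x
  exact (S.vc_eq_zero ha).2 (S.centre a ha fun b hb => (S.bv_eq_zero ha hb).1 (h _))

/-- The orthogonal space. -/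
noncomputable def space : Space S.Vz where
  q := S.qv
  β := S.bv
  self v := by
    obtain ⟨a, ha, rfl⟩ := S.vc_surj v
    rw [← S.vc_mul ha ha, S.vc_eq_zero (mul_mem ha ha)]
    exact S.sq a ha
  q_add := S.qv_add
  β_add := S.bv_add
  nondeg := S.bv_nondeg
  card := S.card_Vz

/-- The representation. -/
noncomputable def rep : G0 →* (S.Vz ≃ₗ[ZMod 2] S.Vz) := S.exists_rep.choose

theorem rep_spec (c : ↥(Subgroup.centralizer ({z} : Set G))) (a : ↥S.Q) :
    S.rep (S.φ c) (S.pr a) = S.pr (S.conjQ c a) := S.exists_rep.choose_spec c a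

/-- The action of Sp6(2) by permutations. -/
noncomputable def permHom : G0 →* Equiv.Perm S.Vz where
  toFun g := (S.rep g).toEquiv
  map_one' := Equiv.ext fun v => by rw [map_one]; rfl
  map_mul' g h := Equiv.ext fun v => by rw [map_mul]; rfl

theorem permHom_injective : Function.Injective S.permHom := fun g h e =>
  S.rep_injective S.rep_spec (LinearEquiv.ext fun v => DFunLike.congr_fun e v)

/-- The action of an element centralising `z`. -/
noncomputable def act (c : G) : Equiv.Perm S.Vz :=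
  @dite _ (Commute c z) (Classical.propDecidable _) (fun h => S.permHom (S.φ ⟨c, mem_cent_iff.2 h⟩)) fun _ => 1

theorem act_eq {c : G} (hc : Commute c z) : S.act c = S.permHom (S.φ ⟨c, mem_cent_iff.2 hc⟩) := by
  rw [act, dif_pos hc]

theorem act_vc {c a : G} (hc : Commute c z) (ha : a ∈ S.Q) : S.act c (S.vc a) = S.vc (c * a * c⁻¹) := by
  rw [S.act_eq hc, S.vc_coe ⟨a, ha⟩]
  show S.rep _ (S.pr _) = _
  rw [S.rep_spec, ← S.vc_coe]
  rfl

theorem act_mul {c d : G} (hc : Commute c z) (hd : Commute d z) : S.act (c * d) = S.act c * S.act d := by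
  rw [S.act_eq hc, S.act_eq hd, S.act_eq (hc.mul_left hd), ← map_mul, ← map_mul]; rfl

theorem act_eq_one {c : G} (hc : Commute c z) : S.act c = 1 ↔ c ∈ S.Q := by
  rw [S.act_eq hc, map_eq_one_iff _ S.permHom_injective, S.φ_ker]

theorem act_one : S.act 1 = 1 := (S.act_eq_one (Commute.one_left z)).2 (one_mem _)

theorem act_isom {c : G} (hc : Commute c z) : S.act c ∈ S.space.isom := by
  refine ⟨fun v w => ?_, fun v => ?_⟩
  · rw [S.act_eq hc]; exact map_add (S.rep _) v w
  · obtain ⟨a, ha, rfl⟩ := S.vc_surj v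
    rw [S.act_vc hc ha]
    show S.qv _ = S.qv _
    rw [S.qv_vc (S.conj_mem c hc a ha), S.qv_vc ha]
    have e : c * a * c⁻¹ * (c * a * c⁻¹) = 1 ↔ a * a = 1 := by
      rw [show c * a * c⁻¹ * (c * a * c⁻¹) = c * (a * a) * c⁻¹ by group, conj_eq_one_iff]
    by_cases h : a * a = 1
    · rw [if_pos h, if_pos (e.2 h)]
    · rw [if_neg h, if_neg (mt e.1 h)]

theorem act_act {c : G} (hc : Commute c z) (v : S.Vz) : S.act c (S.act c v) = S.act (c * c) v := by
  rw [S.act_mul hc hc]; rfl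

theorem act_fix {c a : G} (hc : Commute c z) (ha : a ∈ S.Q) (h : Commute c a) : S.act c (S.vc a) = S.vc a := by
  rw [S.act_vc hc ha, h.eq, mul_inv_cancel_right]

theorem act_fix' {c a : G} (hc : Commute c z) (ha : a ∈ S.Q)
    (h : c * a * c⁻¹ = a ∨ c * a * c⁻¹ = a * z) : S.act c (S.vc a) = S.vc a := by
  rw [S.act_vc hc ha, S.vc_eq (S.conj_mem c hc a ha) ha]; exact h

/-- The group induced on the space. -/
noncomputable def grp : Subgroup (Equiv.Perm S.Vz) := S.permHom.range

theorem mem_grp {h : Equiv.Perm S.Vz} (hh : h ∈ S.grp) : ∃ c, Commute c z ∧ S.act c = h := by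
  obtain ⟨g, rfl⟩ := hh
  obtain ⟨c, rfl⟩ := S.φ_surj g
  exact ⟨c, mem_cent_iff.1 c.2, S.act_eq (mem_cent_iff.1 c.2)⟩

theorem act_mem_grp {c : G} (hc : Commute c z) : S.act c ∈ S.grp := ⟨_, (S.act_eq hc).symm⟩

/-- A fixed element gives a copy of Sp6(2) fixing a vector. -/
noncomputable def fixing {x : G} (hx : x ∈ S.Q) (h1 : x ≠ 1) (hz : x ≠ z)
    (hfix : ∀ c, Commute c z → c * x * c⁻¹ = x ∨ c * x * c⁻¹ = x * z) : Fixing S.space (S.vc x) where
  H := S.grp
  le h hh := by
    obtain ⟨c, hc, rfl⟩ := S.mem_grp hh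
    exact S.act_isom hc
  fix h hh := by
    obtain ⟨c, hc, rfl⟩ := S.mem_grp hh
    exact S.act_fix' hc hx (hfix c hc)
  ne h := by
    rcases (S.vc_eq_zero hx).1 h with e | e
    exacts [h1 e, hz e]
  e := (MonoidHom.ofInjective S.permHom_injective).symm

/-- The image of a subgroup of the core. -/
noncomputable def img (K : Subgroup G) : AddSubgroup S.Vz where
  carrier := {v | ∃ k, k ∈ K ∧ k ∈ S.Q ∧ S.vc k = v}
  zero_mem' := ⟨1, one_mem _, one_mem _, S.vc_one⟩
  add_mem' := by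
    rintro _ _ ⟨a, ha, ha', rfl⟩ ⟨b, hb, hb', rfl⟩
    exact ⟨a * b, mul_mem ha hb, mul_mem ha' hb', S.vc_mul ha' hb'⟩
  neg_mem' {v} hv := by rwa [S.space.neg]

theorem mem_img {K : Subgroup G} {v : S.Vz} : v ∈ S.img K ↔ ∃ k, k ∈ K ∧ k ∈ S.Q ∧ S.vc k = v := Iff.rfl

theorem card_img {K : Subgroup G} (hK : K ≤ S.Q) (hzK : z ∈ K) : Nat.card K = 2 * Nat.card (S.img K) := by
  classical
  have hex : ∀ v : S.img K, ∃ k : K, S.vc k = v.1 := fun v => by
    obtain ⟨k, hk, -, e⟩ := v.2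
    exact ⟨⟨k, hk⟩, e⟩
  choose r hr using hex
  let f : S.img K × Bool → K := fun p => if p.2 then r p.1 * ⟨z, hzK⟩ else r p.1
  have hb : Function.Bijective f := by
    constructor
    · rintro ⟨v, i⟩ ⟨w, j⟩ e
      have hv : ∀ (u : S.img K) (k : Bool), S.vc (f (u, k) : G) = u.1 := fun u k => by
        cases k
        · exact hr u
        · show S.vc ((r u : G) * z) = _
          rw [S.vc_mul (hK (r u).2) S.z_mem, hr u, S.vc_z, add_zero]
      have hvw : v = w := Subtype.ext (by rw [← hv v i, ← hv w j, e])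
      subst hvw
      refine Prod.ext rfl ?_
      cases i <;> cases j <;> simp only [f] at e ⊢
      · exact absurd (congrArg Subtype.val e) (S.self_ne_mul_z _)
      · exact absurd (congrArg Subtype.val e).symm (S.self_ne_mul_z _)
    · intro k
      have hk : S.vc (k : G) ∈ S.img K := ⟨k, k.2, hK k.2, rfl⟩
      rcases (S.vc_eq (hK k.2) (hK (r ⟨_, hk⟩).2)).1 (hr ⟨_, hk⟩).symm with e | e
      · exact ⟨(⟨_, hk⟩, false), (Subtype.ext e).symm⟩
      · exact ⟨(⟨_, hk⟩, true), (Subtype.ext e).symm⟩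
  rw [← Nat.card_eq_of_bijective f hb, Nat.card_prod, show Nat.card Bool = 2 by simp, mul_comm]

end Setup

end Cfsg.Agent.CoTwoType
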