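import Cfsg.Agent.Lib.CoTwoType.CaseR.Inverting
import Cfsg.Agent.Lib.ZStar.Glauberman
import Cfsg.Agent.Lib.ZStar.Unique
import Cfsg.Prelude.Def_CaseTheorems

/-
The reducible case of the Co2 type is impossible (helper33).

* `Setup.exists_conj_comm` : a conjugate in the centraliser, by Glauberman's theorem
* `Setup.no_fixed` : no element of the core is fixed up to the centre
-/

set_option autoImplicit false
set_option linter.style.haveILetI false

namespace Cfsg.Agent.CoTwoType.Setup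

open Cfsg.Agent.Multiplier.Sp6 CaseR

universe u

variable {G : Type u} [Group G] {z : G} (S : Setup z)

include S

theorem exists_conj_comm [Finite G] (hO : Cfsg.oddCore G = ⊥) (hZ : Subgroup.center G = ⊥) :
    ∃ g, Commute (g * z * g⁻¹) z ∧ g * z * g⁻¹ ≠ z := by
  by_contra hc
  push Not at hc
  have hiso : Cfsg.IsIsolatedInvolution z := ⟨S.z_ord, fun g hg => hc g hg.symm⟩
  refine S.z_ne ?_
  rw [← Subgroup.mem_bot, ← hZ, Subgroup.mem_center_iff]
  intro g
  have h := ZStar.zStar_of_brauerSuzuki ZStar.uniqueInvolution hiso g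
  rw [show Cfsg.pPrimeCore 2 G = ⊥ from hO, Subgroup.mem_bot, mul_inv_eq_one, mul_inv_eq_iff_eq_mul] at h
  exact h.symm

/-- No element of the core other than `1`, `z` is fixed up to the centre. -/
theorem no_fixed_of_conj [Finite G] {x : G} (hx : x ∈ S.Q) (h1 : x ≠ 1) (hxz : x ≠ z)
    (hfix : ∀ c, Commute c z → c * x * c⁻¹ = x ∨ c * x * c⁻¹ = x * z) {g : G}
    (hc : Commute (g * z * g⁻¹) z) (hne : g * z * g⁻¹ ≠ z) : False := by
  have hsq : x * x = z := (S.qv_eq_one hx).1 (S.fixing hx h1 hxz hfix).q_eq_one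
  obtain ⟨hx2, -, -, hfix2⟩ := S.conj_fix hx h1 hxz hfix g
  have hc' : Commute (g⁻¹ * z * g⁻¹⁻¹) z := by rw [inv_inv]; exact commute_down g hc.symm
  have hne' : g⁻¹ * z * g⁻¹⁻¹ ≠ z := by
    rw [inv_inv]
    intro e
    refine hne ?_
    conv_lhs => rw [← e]
    group
  have K : Conf z (g * z * g⁻¹) :=
    ⟨S, S.conj g, x, g * x * g⁻¹, hx, hx2,
      hsq, by rw [show g * x * g⁻¹ * (g * x * g⁻¹) = g * (x * x) * g⁻¹ by group, hsq],
      hfix, hfix2, hc, hne, S.not_mem_core hx h1 hxz hfix hc hne, fun h => by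
        have := S.not_mem_core hx h1 hxz hfix hc' hne'
        rw [inv_inv] at this
        exact this (mem_conj_Q.1 h)⟩
  by_cases h : Commute (g * z * g⁻¹) K.x
  exacts [K.commuting_false h, K.inverting_false h]

theorem no_fixed [Finite G] (hO : Cfsg.oddCore G = ⊥) (hZ : Subgroup.center G = ⊥) {x : G} (hx : x ∈ S.Q)
    (h1 : x ≠ 1) (hxz : x ≠ z) (hfix : ∀ c, Commute c z → c * x * c⁻¹ = x ∨ c * x * c⁻¹ = x * z) : False := by
  obtain ⟨g, hc, hne⟩ := S.exists_conj_comm hO hZ
  exact S.no_fixed_of_conj hx h1 hxz hfix hc hne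

end Cfsg.Agent.CoTwoType.Setup
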