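import Cfsg.Agent.Lib.CoTwoType.CaseR.Tools
import Cfsg.Agent.Lib.CoTwoType.CaseR.Extra

/-
A fixed element: conjugates of `z` in the centraliser lie outside the core (helper33).

* `Setup.conj_fix` : the fixed element of a conjugate
* `Setup.singular_meet` : the meet of two cores through a common four group
* `Setup.not_mem_core` : the result
-/

set_option autoImplicit false
set_option linter.style.haveILetI false

namespace Cfsg.Agent.CoTwoType.Setup

open Cfsg.Agent.Multiplier.Sp6 CaseR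

universe u

variable {G : Type u} [Group G] {z : G} (S : Setup z)

include S

theorem conj_fix {x : G} (hx : x ∈ S.Q) (h1 : x ≠ 1) (hz : x ≠ z)
    (hfix : ∀ c, Commute c z → c * x * c⁻¹ = x ∨ c * x * c⁻¹ = x * z) (g : G) :
    g * x * g⁻¹ ∈ (S.conj g).Q ∧ g * x * g⁻¹ ≠ 1 ∧ g * x * g⁻¹ ≠ g * z * g⁻¹ ∧
      ∀ c, Commute c (g * z * g⁻¹) →
        c * (g * x * g⁻¹) * c⁻¹ = g * x * g⁻¹ ∨ c * (g * x * g⁻¹) * c⁻¹ = g * x * g⁻¹ * (g * z * g⁻¹) := by
  refine ⟨mem_conj_Q.2 (by simpa [mul_assoc] using hx), fun h => h1 (conj_eq_one_iff.1 h),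
    fun h => hz (mul_left_cancel (mul_right_cancel h)), fun c hc => ?_⟩
  have e : c * (g * x * g⁻¹) * c⁻¹ = g * ((g⁻¹ * c * g) * x * (g⁻¹ * c * g)⁻¹) * g⁻¹ := by group
  rcases hfix _ (commute_down g hc) with h | h
  · left; rw [e, h]
  · right; rw [e, h]; group

/-- A totally singular set of vectors invariant under the stabiliser of one of its members is tiny. -/
theorem singular_meet {x : G} (hx : x ∈ S.Q) (h1 : x ≠ 1) (hxz : x ≠ z)
    (hfix : ∀ c, Commute c z → c * x * c⁻¹ = x ∨ c * x * c⁻¹ = x * z) {a : S.Vz} (ha : a ≠ 0)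
    (E : AddSubgroup S.Vz) (haE : a ∈ E) (hsing : ∀ v ∈ E, S.space.q v = 0)
    (hinv : ∀ h ∈ S.grp, h a = a → ∀ v ∈ E, h v ∈ E) {e : S.Vz} (he : e ∈ E) : e = 0 ∨ e = a := by
  have F := S.fixing hx h1 hxz hfix
  have hpair : ∀ {w : S.Vz}, S.space.β w (S.vc x) = 0 → S.space.q w = 1 → w ≠ S.vc x →
      S.space.refl (S.vc x) * S.space.refl w ∈ S.grp := fun hw hq hne =>
    (S.fixing hx h1 hxz hfix).pair_mem hw hq hne
  have hqx : S.space.q (S.vc x) = 1 := F.q_eq_one
  set T := S.space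
  set v := S.vc x
  have iso : ∀ p ∈ E, ∀ r ∈ E, T.β p r = 0 := fun p hp r hr => by
    have := T.q_add p r
    rw [hsing _ (add_mem hp hr), hsing p hp, hsing r hr] at this
    linear_combination -this
  have hxx := T.β_self v
  by_contra hne
  push Not at hne
  rcases zmod2 (T.β a v) with hav | hav
  · rcases zmod2 (T.β e v) with hev | hev
    · -- a vector moving e
      have hev' : e ≠ v := fun h => by
        have := hsing e he
        rw [h, hqx] at this
        exact one_ne_zero this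
      have hva : e ≠ v + a := fun h => by
        have := hsing e he
        rw [h, T.q_add, hqx, hsing a haE, T.β_comm, hav] at this
        exact one_ne_zero this
      obtain ⟨w0, hwx, hwa, hwe⟩ := T.exists_beta_one hne.1 hev' hne.2 hva
      obtain ⟨w, hwx, hwa, hwe, hwq⟩ : ∃ w, T.β w v = 0 ∧ T.β w a = 0 ∧ T.β w e = 1 ∧ T.q w = 1 := by
        rcases zmod2 (T.q w0) with q0 | q0
        · exact ⟨w0 + e, by rw [T.β_add, hwx, hev]; rfl, by rw [T.β_add, hwa, iso e he a haE]; rfl,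
            by rw [T.β_add, hwe, T.β_self]; rfl, by rw [T.q_add, q0, hsing e he, hwe]; rfl⟩
        · exact ⟨w0, hwx, hwa, hwe, q0⟩
      have hwne : w ≠ v := fun h => by
        rw [h, T.β_comm, hev] at hwe
        exact zero_ne_one hwe
      have hew : T.β e w = 1 := by rw [T.β_comm]; exact hwe
      have ht := hinv _ (hpair hwx hwq hwne) (by
        rw [Equiv.Perm.mul_apply, T.refl_fix (show T.β a w = 0 by rw [T.β_comm]; exact hwa), T.refl_fix hav]) e he
      rw [Equiv.Perm.mul_apply, T.refl_apply w e, hew, Space.sm_one,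
        T.refl_fix (show T.β (e + w) v = 0 by rw [T.β_add, hev, hwx]; rfl)] at ht
      have := iso e he _ ht
      rw [T.β_add', T.β_self, hew] at this
      exact one_ne_zero this
    · obtain ⟨w, hwx, hwa, hwe, hwq⟩ := T.exists_q_perp3 v a e
      have hwne : w ≠ v := fun h => by
        rw [h, T.β_comm, hev] at hwe
        exact one_ne_zero hwe
      have ht := hinv _ (hpair hwx hwq hwne) (by
        rw [Equiv.Perm.mul_apply, T.refl_fix (show T.β a w = 0 by rw [T.β_comm]; exact hwa), T.refl_fix hav]) e he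
      rw [Equiv.Perm.mul_apply, T.refl_fix (show T.β e w = 0 by rw [T.β_comm]; exact hwe), T.refl_apply,
        hev, Space.sm_one] at ht
      have := iso e he _ ht
      rw [T.β_add', T.β_self, hev] at this
      exact one_ne_zero this
  · obtain ⟨f, hf, hf0, hfa, hfv⟩ : ∃ f ∈ E, f ≠ 0 ∧ f ≠ a ∧ T.β f v = 0 := by
      rcases zmod2 (T.β e v) with hev | hev
      · exact ⟨e, he, hne.1, hne.2, hev⟩
      · refine ⟨e + a, add_mem he haE, fun h => hne.2 ?_, fun h => hne.1 (add_eq_right.1 h),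
          by rw [T.β_add, hev, hav]; rfl⟩
        rwa [add_eq_zero_iff_eq_neg, T.neg] at h
    have hfv' : f ≠ v := fun h => by
      have := hsing f hf
      rw [h, hqx] at this
      exact one_ne_zero this
    have hva : f ≠ v + a := fun h => by
      rw [h, T.β_add, T.β_self, hav] at hfv
      exact one_ne_zero hfv
    obtain ⟨w0, hwx, hwa, hwe⟩ := T.exists_beta_one hf0 hfv' hfa hva
    obtain ⟨w, hwx, hwa, hwe, hwq⟩ : ∃ w, T.β w v = 0 ∧ T.β w a = 0 ∧ T.β w f = 1 ∧ T.q w = 1 := by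
      rcases zmod2 (T.q w0) with q0 | q0
      · exact ⟨w0 + f, by rw [T.β_add, hwx, hfv]; rfl, by rw [T.β_add, hwa, iso f hf a haE]; rfl,
          by rw [T.β_add, hwe, T.β_self]; rfl, by rw [T.q_add, q0, hsing f hf, hwe]; rfl⟩
      · exact ⟨w0, hwx, hwa, hwe, q0⟩
    obtain ⟨w', hwx', hwa', hwe', hwq'⟩ := T.exists_q_perp3 v a f
    have hva1 : T.β v a = 1 := by rw [T.β_comm]; exact hav
    have hwne : w ≠ v := fun h => by rw [h, hva1] at hwa; exact one_ne_zero hwa
    have hwne' : w' ≠ v := fun h => by rw [h, hva1] at hwa'; exact one_ne_zero hwa'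
    have haw : T.β a w = 0 := by rw [T.β_comm]; exact hwa
    have haw' : T.β a w' = 0 := by rw [T.β_comm]; exact hwa'
    have hfw : T.β f w = 1 := by rw [T.β_comm]; exact hwe
    have hfw' : T.β f w' = 0 := by rw [T.β_comm]; exact hwe'
    have hxw : T.β v w = 0 := by rw [T.β_comm]; exact hwx
    have ht := hinv _ (mul_mem (hpair hwx hwq hwne) (hpair hwx' hwq' hwne')) (by
      simp only [Equiv.Perm.mul_apply]
      rw [T.refl_fix haw', T.refl_apply v a, hav, Space.sm_one,
        T.refl_fix (show T.β (a + v) w = 0 by rw [T.β_add, haw, hxw]; rfl), T.refl_apply,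
        show T.β (a + v) v = 1 by rw [T.β_add, hav, hxx]; rfl, Space.sm_one, T.add_self_right]) f hf
    simp only [Equiv.Perm.mul_apply] at ht
    rw [T.refl_fix hfw', T.refl_fix hfv, T.refl_apply w f, hfw, Space.sm_one,
      T.refl_fix (show T.β (f + w) v = 0 by rw [T.β_add, hfv, hwx]; rfl)] at ht
    have := iso f hf _ ht
    rw [T.β_add', T.β_self, hfw] at this
    exact one_ne_zero this

/-- A conjugate of `z` in the centraliser is outside the core. -/
theorem not_mem_core [Finite G] {x : G} (hx : x ∈ S.Q) (h1 : x ≠ 1) (hxz : x ≠ z)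
    (hfix : ∀ c, Commute c z → c * x * c⁻¹ = x ∨ c * x * c⁻¹ = x * z) {g : G}
    (hc : Commute (g * z * g⁻¹) z) (hne : g * z * g⁻¹ ≠ z) : g * z * g⁻¹ ∉ S.Q := by
  intro ha
  have D := S.data
  have hzQ2 : z ∈ (S.conj g).Q := D.mem_conj ha hne (by rw [S.card_Q]; norm_num)
  obtain ⟨hx2, h21, h2z, hfix2⟩ := S.conj_fix hx h1 hxz hfix g
  generalize S.conj g = S2 at hzQ2 hx2
  generalize g * z * g⁻¹ = a at S2 hc hne ha hzQ2 hx2 h2z hfix2
  generalize g * x * g⁻¹ = x2 at hx2 h21 h2z hfix2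
  have ha1 : a ≠ 1 := S2.z_ne
  let E := S.Q ⊓ S2.Q
  have Ecent : ∀ e ∈ E, Commute e z ∧ Commute e a := fun e he => ⟨S.le_cent e he.1, S2.le_cent e he.2⟩
  have hsq : ∀ e ∈ E, e * e = 1 := fun e he => by
    rcases S.sq e he.1 with h | h
    · exact h
    · rcases S2.sq e he.2 with h' | h'
      · exact h'
      · exact absurd (h'.symm.trans h) hne
  have hav : S.vc a ≠ 0 := fun h => by
    rcases (S.vc_eq_zero ha).1 h with r | r
    exacts [ha1 r, hne r]
  have hsmall : ∀ v ∈ S.img E, v = 0 ∨ v = S.vc a := fun v hv =>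
    S.singular_meet hx h1 hxz hfix hav (S.img E) ⟨a, ⟨ha, S2.z_mem⟩, ha, rfl⟩
      (fun w hw => by
        obtain ⟨k, hk, hkQ, rfl⟩ := hw
        exact (S.qv_eq_zero hkQ).2 (hsq k hk))
      (fun h hh hfa w hw => by
        obtain ⟨c, hcz, rfl, hca⟩ := S.exists_fix_lift ha ha1 hne hh hfa
        obtain ⟨k, hk, hkQ, rfl⟩ := hw
        rw [S.act_vc hcz hkQ]
        exact ⟨c * k * c⁻¹, ⟨S.conj_mem c hcz k hkQ, S2.conj_mem c hca k hk.2⟩, S.conj_mem c hcz k hkQ,
          rfl⟩) hv
  have hEimg : Nat.card (S.img E) ≤ 2 := by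
    rw [← S.space.card_pr2 hav]
    exact AddSubgroup.card_le_of_le fun v hv => hsmall v hv
  have hEcard : Nat.card E ≤ 4 := by
    rw [S.card_img (K := E) inf_le_left ⟨S.z_mem, hzQ2⟩]
    omega
  -- the centraliser in the core, acting on the other core
  let R := S.Q ⊓ Subgroup.centralizer ({a} : Set G)
  have hR : 256 ≤ Nat.card R := by
    have h := card_le_two_inf S.Q a (a * z) fun q hq => by
      rcases S.comm q hq a ha with e | e
      · exact Or.inl (mul_inv_eq_iff_eq_mul.2 e)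
      · exact Or.inr (by rw [e, mul_assoc a q z, S.z_comm hq, ← mul_assoc, mul_inv_cancel_right])
    rw [S.card_Q] at h
    change 512 ≤ 2 * Nat.card R at h
    omega
  have hRa : ∀ r ∈ R, Commute r a := fun r hr => mem_cent_iff.1 hr.2
  have hzv : S2.vc z ≠ 0 := fun h => by
    rcases (S2.vc_eq_zero hzQ2).1 h with r | r
    exacts [S.z_ne r, hne r.symm]
  have F2 := S2.fixing hx2 h21 h2z hfix2
  have hP := S2.space.card_shears_le hzv ((S2.qv_eq_zero hzQ2).2 S.zz) F2.q_eq_one (S2.actHom hRa).range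
    (by rintro _ ⟨r, rfl⟩; exact S2.act_isom (hRa r r.2))
    (by rintro _ ⟨r, rfl⟩; exact S2.act_fix (hRa r r.2) hzQ2 (S.le_cent r r.2.1))
    (by rintro _ ⟨r, rfl⟩; exact S2.act_fix' (hRa r r.2) hx2 (hfix2 r (hRa r r.2)))
    (by
      rintro _ ⟨⟨r, hr⟩, rfl⟩ w hw
      obtain ⟨u, hu, rfl⟩ := S2.vc_surj w
      show S2.act r (S2.vc u) = S2.vc u ∨ S2.act r (S2.vc u) = S2.vc u + S2.vc z
      have hru := S2.conj_mem r (hRa r hr) u hu
      rw [S2.act_vc (hRa r hr) hu]
      have huz : Commute u z := (S2.bv_eq_zero hu hzQ2).1 hw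
      have hmem : r * u * r⁻¹ * u⁻¹ ∈ E := by
        refine ⟨?_, S2.Q.mul_mem hru (S2.Q.inv_mem hu)⟩
        have := mul_mem hr.1 (S.conj_mem u huz _ (inv_mem hr.1))
        simpa [mul_assoc] using this
      have hd : S2.vc (r * u * r⁻¹) = S2.vc (r * u * r⁻¹ * u⁻¹) + S2.vc u := by
        rw [← S2.vc_mul hmem.2 hu, inv_mul_cancel_right]
      rw [hd]
      have hz0 : S2.vc (r * u * r⁻¹ * u⁻¹) = 0 ∨ S2.vc (r * u * r⁻¹ * u⁻¹) = S2.vc z := by
        rcases hsmall _ ⟨_, hmem, hmem.1, rfl⟩ with h | h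
        · rcases (S.vc_eq_zero hmem.1).1 h with h' | h'
          · left; rw [h', S2.vc_one]
          · right; rw [h']
        · rcases (S.vc_eq hmem.1 ha).1 h with h' | h'
          · left; rw [h', S2.vc_z]
          · right; rw [h', S2.vc_mul S2.z_mem hzQ2, S2.vc_z, zero_add]
      rcases hz0 with h | h <;> rw [h]
      · exact Or.inl (zero_add _)
      · exact Or.inr (add_comm _ _))
  have hc2 := S2.card_image hRa
  have hRE : R ⊓ S2.Q ≤ E := fun e he => ⟨he.1.1, he.2⟩
  have hker : Nat.card (R ⊓ S2.Q : Subgroup G) ≤ 4 := (Subgroup.card_le_of_le hRE).trans hEcard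
  have := Nat.mul_le_mul hP hker
  omega

end Cfsg.Agent.CoTwoType.Setup
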