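import Cfsg.Agent.Lib.CoTwoType.CaseR.Space

/-
Reflections and shears of an orthogonal space of order 256 (helper33).

* `sm`, `refl`, `refl_mem`, `refl_comm`, `refl_conj`
* `half`, `exists_notMem`, `perp1`, `shear_comm` : isometries trivial on a hyperplane modulo its perpendicular commute
-/

set_option autoImplicit false
set_option linter.style.haveILetI false

namespace Cfsg.Agent.CoTwoType.CaseR.Space

variable {V : Type*} [AddCommGroup V] (S : Space V)

/-- A scalar times a vector. -/
def sm (a : ZMod 2) (v : V) : V := if a = 0 then 0 else v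

theorem sm_zero' (v : V) : sm 0 v = 0 := if_pos rfl

theorem sm_one (v : V) : sm 1 v = v := if_neg (by decide)

include S

theorem sm_add (a b : ZMod 2) (v : V) : sm (a + b) v = sm a v + sm b v := by
  rcases zmod2 a with rfl | rfl <;> rcases zmod2 b with rfl | rfl <;>
    simp [sm_zero', sm_one, S.self, show (1 : ZMod 2) + 1 = 0 from rfl]

theorem β_sm (a : ZMod 2) (v w : V) : S.β (sm a v) w = a * S.β v w := by
  rcases zmod2 a with rfl | rfl <;> simp [sm_zero', sm_one, S.zero_β]

theorem β_sm' (a : ZMod 2) (v w : V) : S.β v (sm a w) = a * S.β v w := by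
  rw [S.β_comm, S.β_sm, S.β_comm]

theorem add_self_right (v w : V) : v + w + w = v := by rw [add_assoc, S.self, add_zero]

theorem q_add_x {v x : V} (h : S.β v x = 0) : S.q (v + x) = S.q v + S.q x := by
  rw [S.q_add, h, add_zero]

/-- The orthogonal hyperplane of a vector. -/
def perp1 (x : V) : AddSubgroup V where
  carrier := {v | S.β v x = 0}
  zero_mem' := S.zero_β x
  add_mem' {u v} hu hv := by show S.β (u + v) x = 0; rw [S.β_add, hu, hv, add_zero]
  neg_mem' {v} hv := by rwa [S.neg]

theorem mem_perp1 {x v : V} : v ∈ S.perp1 x ↔ S.β v x = 0 := Iff.rfl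

/-- The subgroup of two elements. -/
def pr2 (x : V) : AddSubgroup V where
  carrier := {v | v = 0 ∨ v = x}
  zero_mem' := Or.inl rfl
  add_mem' {u v} hu hv := by
    rcases hu with rfl | rfl <;> rcases hv with rfl | rfl <;> simp [S.self]
  neg_mem' {v} hv := by rwa [S.neg]

theorem perp_pr2 (x : V) : S.perp (S.pr2 x) = S.perp1 x := by
  ext v
  refine ⟨fun h => h x (Or.inr rfl), fun h a ha => ?_⟩
  rcases ha with rfl | rfl
  · exact S.β_zero v
  · exact h

theorem card_pr2 {x : V} (hx : x ≠ 0) : Nat.card (S.pr2 x) = 2 := by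
  rw [Nat.card_eq_two_iff]
  refine ⟨⟨0, Or.inl rfl⟩, ⟨x, Or.inr rfl⟩, fun h => hx (congrArg Subtype.val h).symm, ?_⟩
  ext ⟨v, hv⟩
  rcases hv with rfl | rfl <;> simp

theorem card_perp1 {x : V} (hx : x ≠ 0) : Nat.card (S.perp1 x) = 128 := by
  have h := S.card_perp (S.pr2 x)
  rw [S.perp_pr2, S.card_pr2 hx] at h
  omega

theorem perp_perp1 {x : V} (hx : x ≠ 0) {v : V} (hv : ∀ u, S.β u x = 0 → S.β v u = 0) : v = 0 ∨ v = x := by
  haveI := S.fin
  have hle : S.pr2 x ≤ S.perp (S.perp1 x) := fun a ha u hu => by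
    rcases ha with rfl | rfl
    · exact S.zero_β u
    · rw [S.β_comm]; exact hu
  have h := S.card_perp (S.perp1 x)
  rw [S.card_perp1 hx] at h
  have e := AddSubgroup.eq_of_le_of_card_ge hle (by rw [S.card_pr2 hx]; omega)
  have : v ∈ S.perp (S.perp1 x) := fun u hu => hv u hu
  rw [← e] at this
  exact this

theorem half (T : AddSubgroup V) (x : V) : Nat.card T ≤ 2 * Nat.card (T ⊓ S.perp1 x : AddSubgroup V) := by
  let f : V →+ ZMod 2 := AddMonoidHom.mk' (fun v => S.β v x) fun u v => S.β_add u v x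
  have hk : f.ker = S.perp1 x := by ext v; rfl
  have h := card_eq_inf_ker_mul f T
  rw [hk] at h
  rw [h, mul_comm 2]
  refine Nat.mul_le_mul_left _ ?_
  exact (AddSubgroup.card_le_card_addGroup _).trans (Nat.card_zmod 2).le

theorem exists_notMem (T : AddSubgroup V) (l : List V) (h : l.length < Nat.card T) :
    ∃ v ∈ T, v ∉ l := by
  classical
  haveI := S.fin
  by_contra! hc
  have h1 := Nat.card_le_card_of_injective (fun v : T => (⟨v.1, List.mem_toFinset.2 (hc v.1 v.2)⟩ : l.toFinset))
    (fun a b e => Subtype.ext (congrArg Subtype.val e :))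
  rw [Nat.card_eq_finsetCard] at h1
  have := l.toFinset_card_le
  omega

/-- The reflection map. -/
def rfun (w v : V) : V := v + sm (S.β v w) w

theorem rfun_rfun {w : V} (v : V) : S.rfun w (S.rfun w v) = v := by
  unfold rfun
  rw [S.β_add, S.β_sm, S.β_self, mul_zero, add_zero, S.add_self_right]

/-- The reflection. -/
def refl (w : V) : Equiv.Perm V where
  toFun := S.rfun w
  invFun := S.rfun w
  left_inv := S.rfun_rfun
  right_inv := S.rfun_rfun

theorem refl_apply (w v : V) : S.refl w v = v + sm (S.β v w) w := rfl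

theorem refl_mem {w : V} (hw : S.q w = 1) : S.refl w ∈ S.isom := by
  refine ⟨fun u v => ?_, fun v => ?_⟩
  · simp only [refl_apply, S.β_add, S.sm_add]; abel
  · rw [refl_apply]
    rcases zmod2 (S.β v w) with h | h <;> rw [h]
    · rw [sm_zero', add_zero]
    · rw [sm_one, S.q_add, hw, h, add_assoc, show (1 : ZMod 2) + 1 = 0 from rfl, add_zero]

theorem refl_self_mul (w : V) : S.refl w * S.refl w = 1 := Equiv.ext fun v => S.rfun_rfun v

theorem refl_fix {w v : V} (h : S.β v w = 0) : S.refl w v = v := by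
  rw [refl_apply, h, sm_zero', add_zero]

theorem refl_comm {u w : V} (h : S.β u w = 0) : S.refl u * S.refl w = S.refl w * S.refl u := by
  refine Equiv.ext fun v => ?_
  have h' : S.β w u = 0 := by rw [S.β_comm]; exact h
  simp only [Equiv.Perm.mul_apply, refl_apply, S.β_add, S.β_sm, h, h', mul_zero, add_zero]
  abel

theorem refl_conj {g : Equiv.Perm V} (hg : g ∈ S.isom) (w : V) : g * S.refl w * g⁻¹ = S.refl (g w) := by
  refine Equiv.ext fun v => ?_
  obtain ⟨u, rfl⟩ := g.surjective v
  simp only [Equiv.Perm.mul_apply, Equiv.Perm.inv_def, Equiv.symm_apply_apply, refl_apply, hg.1,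
    isom_β hg]
  rcases zmod2 (S.β u w) with h | h <;> simp [h, sm_zero', sm_one, isom_zero hg]

/-- Isometries fixing `e` and trivial on its orthogonal modulo `e` commute. -/
theorem shear_comm {e : V} (he : e ≠ 0) {g h : Equiv.Perm V} (hg : g ∈ S.isom) (hh : h ∈ S.isom)
    (hge : g e = e) (hhe : h e = e) (hgs : ∀ u, S.β u e = 0 → g u = u ∨ g u = u + e)
    (hhs : ∀ u, S.β u e = 0 → h u = u ∨ h u = u + e) : g * h = h * g := by
  obtain ⟨v0, hv0⟩ := S.exists_eq_one he
  rw [S.β_comm] at hv0
  have key : ∀ k : Equiv.Perm V, k ∈ S.isom → k e = e → (∀ u, S.β u e = 0 → k u = u ∨ k u = u + e) →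
      S.β (k v0 + v0) e = 0 ∧ ∀ u, S.β u e = 0 → k u = u + sm (S.β u (k v0 + v0)) e := by
    intro k hk hke hks
    have h1 : S.β (k v0) e = 1 := by
      have h := isom_β hk v0 e
      rwa [hke, hv0] at h
    refine ⟨by rw [S.β_add, h1, hv0]; rfl, fun u hu => ?_⟩
    have hb := isom_β hk u v0
    have he' : S.β e (k v0) = 1 := by rw [S.β_comm]; exact h1
    rcases hks u hu with e' | e' <;> rw [e'] at hb ⊢
    · have : S.β u (k v0 + v0) = 0 := by
        rw [S.β_add', hb]; generalize S.β u v0 = b; revert b; decide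
      rw [this, sm_zero', add_zero]
    · rw [S.β_add, he'] at hb
      have : S.β u (k v0 + v0) = 1 := by
        rw [S.β_add']; revert hb; generalize S.β u v0 = b; generalize S.β u (k v0) = c
        revert b c; decide
      rw [this, sm_one]
  obtain ⟨hwg, hg'⟩ := key g hg hge hgs
  obtain ⟨hwh, hh'⟩ := key h hh hhe hhs
  have hee := S.β_self e
  have hdec : ∀ v, ∃ u, S.β u e = 0 ∧ (v = u ∨ v = u + v0) := fun v => by
    rcases zmod2 (S.β v e) with h0 | h0
    · exact ⟨v, h0, Or.inl rfl⟩
    · exact ⟨v + v0, by rw [S.β_add, h0, hv0]; rfl, Or.inr (S.add_self_right v v0).symm⟩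
  have hu : ∀ u, S.β u e = 0 → g (h u) = h (g u) := fun u hu => by
    rw [hh' u hu, hg' u hu, isom_add hg, isom_add hh, hg' u hu, hh' u hu]
    rcases zmod2 (S.β u (h v0 + v0)) with a | a <;> rcases zmod2 (S.β u (g v0 + v0)) with b | b <;>
      simp [a, b, sm_zero', sm_one, hge, hhe, isom_zero hg, isom_zero hh]
  have hv : g (h v0) = h (g v0) := by
    have ew : g v0 = g v0 + v0 + v0 := (S.add_self_right _ _).symm
    have ew' : h v0 = h v0 + v0 + v0 := (S.add_self_right _ _).symm
    rw [ew', isom_add hg, hg' _ hwh]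
    conv_rhs => rw [ew, isom_add hh, hh' _ hwg]
    rw [S.β_comm (g v0 + v0) (h v0 + v0), ew, ew']
    simp only [S.add_self_right]
    abel
  refine Equiv.ext fun v => ?_
  simp only [Equiv.Perm.mul_apply]
  obtain ⟨u, hu0, rfl | rfl⟩ := hdec v
  · exact hu _ hu0
  · rw [isom_add hh, isom_add hg, isom_add hg, isom_add hh, hu u hu0, hv]

end Cfsg.Agent.CoTwoType.CaseR.Space
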