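import Cfsg.Agent.EqLemmas

/-
Orthogonal spaces of order 256 over two elements (helper33), for the reducible case of the Co2 type.

* `Space V`, `Space.perp`, `card_perp`, `Space.isom`, `Space.fix`, `Space.dif`
* `four_fixed` : an isometry of order four fixing a subgroup of index two in the fixed space of its square
-/

set_option autoImplicit false
set_option linter.style.haveILetI false

namespace Cfsg.Agent.CoTwoType.CaseR

/-- A nondegenerate quadratic space of order 256 over two elements. -/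
structure Space (V : Type*) [AddCommGroup V] where
  /-- The quadratic form. -/
  q : V → ZMod 2
  /-- The alternating form. -/
  β : V → V → ZMod 2
  self : ∀ v : V, v + v = 0
  q_add : ∀ x y, q (x + y) = q x + q y + β x y
  β_add : ∀ x y w, β (x + y) w = β x w + β y w
  nondeg : ∀ x, (∀ y, β x y = 0) → x = 0
  card : Nat.card V = 256

theorem zmod2 (a : ZMod 2) : a = 0 ∨ a = 1 := by revert a; decide

variable {V : Type*} [AddCommGroup V]

/-- The number of elements through a homomorphism. -/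
theorem card_eq_inf_ker_mul {A B : Type*} [AddGroup A] [AddGroup B] (f : A →+ B) (S : AddSubgroup A) :
    Nat.card S = Nat.card (S ⊓ f.ker : AddSubgroup A) * Nat.card (S.map f) := by
  have h := (f.comp S.subtype).ker.card_mul_index
  rw [AddSubgroup.index_ker, AddMonoidHom.range_comp, S.range_subtype] at h
  rw [← h]
  congr 1
  refine Nat.card_congr
    ⟨fun a => ⟨a.1.1, a.1.2, a.2⟩, fun a => ⟨⟨a.1, a.2.1⟩, a.2.2⟩,
      fun a => rfl, fun a => rfl⟩

namespace Space

variable (S : Space V)

include S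

theorem neg (v : V) : -v = v := neg_eq_of_add_eq_zero_left (S.self v)

theorem β_comm (x y : V) : S.β x y = S.β y x := by
  have h1 := S.q_add x y
  rw [add_comm x y, S.q_add] at h1
  linear_combination -h1

theorem β_add' (x y w : V) : S.β x (y + w) = S.β x y + S.β x w := by
  simp only [S.β_comm x, S.β_add]

theorem β_zero (x : V) : S.β x 0 = 0 := by
  have h := S.β_add' x 0 0
  rw [add_zero] at h
  linear_combination -h

theorem zero_β (x : V) : S.β 0 x = 0 := by rw [S.β_comm, S.β_zero]

theorem q_zero : S.q 0 = 0 := by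
  have h := S.q_add 0 0
  rw [add_zero, S.β_zero] at h
  linear_combination -h

theorem β_self (x : V) : S.β x x = 0 := by
  have h := S.q_add x x
  rw [S.self, S.q_zero] at h
  rcases zmod2 (S.q x) with e | e <;> rw [e] at h <;> revert h <;> generalize S.β x x = b <;>
    revert b <;> decide

theorem fin : Finite V := Nat.finite_of_card_ne_zero (by rw [S.card]; norm_num)

/-- The orthogonal subgroup. -/
def perp (A : AddSubgroup V) : AddSubgroup V where
  carrier := {v | ∀ a ∈ A, S.β v a = 0}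
  zero_mem' a _ := S.zero_β a
  add_mem' hv hw a ha := by rw [S.β_add, hv a ha, hw a ha, add_zero]
  neg_mem' {v} hv := by rwa [S.neg]

theorem mem_perp {A : AddSubgroup V} {v : V} : v ∈ S.perp A ↔ ∀ a ∈ A, S.β v a = 0 := Iff.rfl

theorem card_perp (A : AddSubgroup V) : Nat.card A * Nat.card (S.perp A) = 256 := by
  haveI := S.fin
  letI : Module (ZMod 2) V := AddCommGroup.zmodModule (n := 2) fun v => by rw [two_nsmul]; exact S.self v
  let B : LinearMap.BilinForm (ZMod 2) V := LinearMap.mk₂ (ZMod 2) S.β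
    (fun x y w => S.β_add x y w)
    (fun c x w => by rcases zmod2 c with rfl | rfl <;> simp [S.zero_β])
    (fun x y w => S.β_add' x y w)
    (fun c x w => by rcases zmod2 c with rfl | rfl <;> simp [S.β_zero])
  have hsymm : B.IsRefl := fun x y h => by
    show S.β y x = 0
    rw [S.β_comm]; exact h
  have hB : B.Nondegenerate := ⟨fun x h => S.nondeg x h, fun x h => S.nondeg x fun y => by
    rw [S.β_comm]; exact h y⟩
  let W : Submodule (ZMod 2) V := AddSubgroup.toZModSubmodule 2 A
  have hW : Nat.card W = Nat.card A := rfl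
  have hO : Nat.card (B.orthogonal W) = Nat.card (S.perp A) := by
    refine Nat.card_congr (Equiv.subtypeEquivRight fun v => ?_)
    rw [LinearMap.BilinForm.mem_orthogonal_iff]
    show (∀ n ∈ A, S.β n v = 0) ↔ _
    simp only [S.β_comm _ v]; rfl
  rw [← hW, ← hO, Module.natCard_eq_pow_finrank (K := ZMod 2) (V := W),
    Module.natCard_eq_pow_finrank (K := ZMod 2) (V := B.orthogonal W), ← pow_add,
    LinearMap.BilinForm.finrank_orthogonal hB W, Nat.add_sub_cancel' (Submodule.finrank_le W),
    ← Module.natCard_eq_pow_finrank, S.card]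

theorem exists_eq_one {x : V} (hx : x ≠ 0) : ∃ y, S.β x y = 1 := by
  by_contra! h
  exact hx (S.nondeg x fun y => (zmod2 _).resolve_right (h y))

theorem card_pos (A : AddSubgroup V) : 0 < Nat.card A := by
  haveI := S.fin
  exact Nat.card_pos

/-- A totally singular subgroup has at most sixteen elements. -/
theorem card_le_of_singular {A : AddSubgroup V} (h : ∀ a ∈ A, S.q a = 0) : Nat.card A ≤ 16 := by
  haveI := S.fin
  have hle : A ≤ S.perp A := fun a ha b hb => by
    have := S.q_add a b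
    rw [h _ (add_mem ha hb), h a ha, h b hb] at this
    linear_combination -this
  have h1 := AddSubgroup.card_le_of_le hle
  have h2 := S.card_perp A
  nlinarith

/-- A subgroup with more than sixteen elements has a nonsingular vector. -/
theorem exists_q_one {A : AddSubgroup V} (h : 16 < Nat.card A) : ∃ a ∈ A, S.q a = 1 := by
  by_contra! hc
  exact absurd (S.card_le_of_singular fun a ha => (zmod2 _).resolve_right (hc a ha)) (by omega)

/-- The isometries. -/
def isom : Subgroup (Equiv.Perm V) where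
  carrier := {g | (∀ u v, g (u + v) = g u + g v) ∧ ∀ v, S.q (g v) = S.q v}
  one_mem' := ⟨fun _ _ => rfl, fun _ => rfl⟩
  mul_mem' {g h} hg hh := ⟨fun u v => by simp only [Equiv.Perm.mul_apply, hh.1, hg.1],
    fun v => by rw [Equiv.Perm.mul_apply, hg.2, hh.2]⟩
  inv_mem' {g} hg := ⟨fun u v => g.injective (by simp [hg.1]), fun v => by
    conv_rhs => rw [← g.apply_symm_apply v, hg.2]
    rfl⟩

variable {S}

theorem isom_add {g : Equiv.Perm V} (hg : g ∈ S.isom) (u v : V) : g (u + v) = g u + g v := hg.1 u v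

theorem isom_zero {g : Equiv.Perm V} (hg : g ∈ S.isom) : g 0 = 0 := by
  simpa using hg.1 0 0

theorem isom_q {g : Equiv.Perm V} (hg : g ∈ S.isom) (v : V) : S.q (g v) = S.q v := hg.2 v

theorem isom_β {g : Equiv.Perm V} (hg : g ∈ S.isom) (u v : V) : S.β (g u) (g v) = S.β u v := by
  have h1 := S.q_add (g u) (g v)
  rw [← hg.1, hg.2, hg.2, hg.2, S.q_add] at h1
  linear_combination -h1

variable (S)

/-- The fixed vectors. -/
def fix {g : Equiv.Perm V} (hg : g ∈ S.isom) : AddSubgroup V where
  carrier := {v | g v = v}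
  zero_mem' := isom_zero hg
  add_mem' {u v} hu hv := by show g (u + v) = u + v; rw [hg.1, hu, hv]
  neg_mem' {v} hv := by rwa [S.neg]

theorem mem_fix {g : Equiv.Perm V} (hg : g ∈ S.isom) {v : V} : v ∈ S.fix hg ↔ g v = v := Iff.rfl

/-- The difference with the identity. -/
def dif {g : Equiv.Perm V} (hg : g ∈ S.isom) : V →+ V :=
  AddMonoidHom.mk' (fun v => g v + v) fun u v => by
    show g (u + v) + (u + v) = g u + u + (g v + v)
    rw [hg.1]; abel

theorem dif_apply {g : Equiv.Perm V} (hg : g ∈ S.isom) (v : V) : S.dif hg v = g v + v := rfl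

theorem dif_eq_zero {g : Equiv.Perm V} (hg : g ∈ S.isom) {v : V} : S.dif hg v = 0 ↔ g v = v := by
  rw [dif_apply, add_eq_zero_iff_eq_neg, S.neg]

theorem ker_dif {g : Equiv.Perm V} (hg : g ∈ S.isom) : (S.dif hg).ker = S.fix hg := by
  ext v; exact S.dif_eq_zero hg

theorem range_dif_eq {g : Equiv.Perm V} (hg : g ∈ S.isom) : (S.dif hg).range = S.perp (S.fix hg) := by
  haveI := S.fin
  refine AddSubgroup.eq_of_le_of_card_ge ?_ ?_
  · rintro _ ⟨v, rfl⟩ a ha
    rw [dif_apply, S.β_add]
    nth_rw 1 [← (S.mem_fix hg).1 ha]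
    rw [isom_β hg]
    generalize S.β v a = b; revert b; decide
  · have h1 := (S.dif hg).ker.card_mul_index
    rw [AddSubgroup.index_ker, S.ker_dif hg, S.card] at h1
    have h2 := S.card_perp (S.fix hg)
    exact (Nat.eq_of_mul_eq_mul_left (S.card_pos _) (h2.trans h1.symm)).le

theorem dif_dif {g : Equiv.Perm V} (hg : g ∈ S.isom) (v : V) :
    S.dif hg (S.dif hg v) = g (g v) + v := by
  simp only [dif_apply, hg.1]
  rw [show g (g v) + g v + (g v + v) = g (g v) + v + (g v + g v) by abel, S.self, add_zero]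

/-- An isometry of order four fixing a subgroup of index at most two in the fixed space of its square. -/
theorem four_fixed {g : Equiv.Perm V} (hg : g ∈ S.isom) (h4 : ∀ v, g (g (g (g v))) = v)
    (h2 : ∃ v, g (g v) ≠ v) (hgg : g * g ∈ S.isom) (U : AddSubgroup V) (hU : U ≤ S.fix hg)
    (hF : Nat.card (S.fix hgg) ≤ 2 * Nat.card U) :
    Nat.card U = 32 ∧ Nat.card (S.perp U) = 8 ∧ U = S.fix hg ∧
      ∃ e, e ≠ 0 ∧ ∀ v, (v ∈ U ∧ v ∈ S.perp U) ↔ (v = 0 ∨ v = e) := by
  haveI := S.fin
  set N := S.dif hg with hN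
  set M := S.dif hgg with hM
  have hMN : ∀ v, M v = N (N v) := fun v => by rw [hN, S.dif_dif]; rfl
  set K1 := S.fix hg with hK1
  set K2 := S.fix hgg with hK2
  have hk1 : N.ker = K1 := S.ker_dif hg
  have hk2 : M.ker = K2 := S.ker_dif hgg
  have hN4 : ∀ v, N (N (N (N v))) = 0 := fun v => by
    rw [hN, S.dif_dif, S.dif_dif]
    simp only [hg.1, h4]
    rw [show v + g (g v) + (g (g v) + v) = (v + v) + (g (g v) + g (g v)) by abel, S.self, S.self,
      add_zero]
  have h12 : K1 ≤ K2 := fun v hv => by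
    show g (g v) = v
    rw [(S.mem_fix hg).1 hv, (S.mem_fix hg).1 hv]
  have hmem1 : ∀ v, v ∈ K1 ↔ N v = 0 := fun v => by rw [← hk1]; rfl
  have hmem2 : ∀ v, v ∈ K2 ↔ N (N v) = 0 := fun v => by rw [← hk2, AddMonoidHom.mem_ker, hMN]
  obtain ⟨v0, hv0⟩ := h2
  have hne : K1 ≠ K2 := fun e => by
    have a1 : N (N (N v0)) = 0 :=
      (hmem1 _).1 (e ▸ (hmem2 _).2 (hN4 v0))
    have a2 : N (N v0) = 0 := (hmem1 _).1 (e ▸ (hmem2 _).2 a1)
    exact hv0 (by
      have := (hmem2 v0).2 a2
      exact this)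
  have hlt : Nat.card K1 < Nat.card K2 := lt_of_le_of_ne (AddSubgroup.card_le_of_le h12) fun e =>
    hne (AddSubgroup.eq_of_le_of_card_ge h12 e.ge)
  have hd : Nat.card K1 ∣ Nat.card K2 := AddSubgroup.card_dvd_of_le h12
  have h2K : 2 * Nat.card K1 ≤ Nat.card K2 := by
    obtain ⟨c, hc⟩ := hd
    rw [hc] at hlt ⊢
    have : c ≠ 0 ∧ c ≠ 1 := ⟨fun h => by simp [h] at hlt, fun h => by simp [h] at hlt⟩
    nlinarith [show 2 ≤ c by omega]
  have hUc : Nat.card U = Nat.card K1 := le_antisymm (AddSubgroup.card_le_of_le hU) (by omega)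
  have hUeq : U = K1 := AddSubgroup.eq_of_le_of_card_ge hU hUc.ge
  have hK2c : Nat.card K2 = 2 * Nat.card K1 := by omega
  -- the images
  have eK2 := card_eq_inf_ker_mul N K2
  rw [hk1, inf_eq_right.2 h12, hK2c] at eK2
  have hNK2 : Nat.card (K2.map N) = 2 := by
    have := S.card_pos K1
    exact (Nat.eq_of_mul_eq_mul_left this (by rw [← eK2, mul_comm])).symm
  let K3 : AddSubgroup V := (N.comp M).ker
  have hmem3 : ∀ v, v ∈ K3 ↔ N (N (N v)) = 0 := fun v => by
    show N (M v) = 0 ↔ _
    rw [hMN]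
  have h3 : Nat.card K3 ≤ 2 * Nat.card K2 := by
    have h23 : K2 ≤ K3 := fun v hv => (hmem3 v).2 (by rw [(hmem2 v).1 hv, map_zero])
    have e := card_eq_inf_ker_mul M K3
    rw [hk2, inf_eq_right.2 h23] at e
    have : K3.map M ≤ K2.map N := by
      rintro _ ⟨v, hv, rfl⟩
      exact ⟨N v, (hmem2 _).2 ((hmem3 v).1 hv), (hMN v).symm⟩
    have := AddSubgroup.card_le_of_le this
    rw [hNK2] at this
    rw [e, mul_comm 2]
    exact Nat.mul_le_mul_left _ this
  have hV : 256 ≤ 2 * Nat.card K3 := by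
    have e := (N.comp M).ker.card_mul_index
    rw [AddSubgroup.index_ker, S.card] at e
    have hsub : (N.comp M).range ≤ K2.map N := by
      rintro _ ⟨v, rfl⟩
      exact ⟨M v, (hmem2 _).2 (by rw [hMN, hN4]), rfl⟩
    have := AddSubgroup.card_le_of_le hsub
    rw [hNK2] at this
    rw [← e, mul_comm 2]
    exact Nat.mul_le_mul_left _ this
  have hd256 : Nat.card K1 ∣ 2 ^ 8 := ⟨_, (S.card_perp K1).symm⟩
  obtain ⟨k, hk, hkK⟩ := (Nat.dvd_prime_pow Nat.prime_two).1 hd256
  have hK2le : Nat.card K2 ≤ 256 := S.card ▸ AddSubgroup.card_le_card_addGroup K2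
  have hk57 : k = 5 ∨ k = 6 ∨ k = 7 := by
    interval_cases k <;> simp_all <;> omega
  have hP2 := S.card_perp K2
  have hrM : M.range = S.perp K2 := S.range_dif_eq hgg
  rcases hk57 with rfl | rfl | rfl
  · -- the generic case
    have hK32 : Nat.card K1 = 32 := by rw [hkK]; norm_num
    have hperp : Nat.card (S.perp K1) = 8 := by
      have := S.card_perp K1; rw [hK32] at this; omega
    refine ⟨hUc.trans hK32, hUeq ▸ hperp, hUeq, ?_⟩
    have e := card_eq_inf_ker_mul N N.range
    rw [hk1, S.range_dif_eq hg, ← hK1, hperp] at e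
    have hmap : (S.perp K1).map N = M.range := by
      rw [← S.range_dif_eq hg]
      ext w
      constructor
      · rintro ⟨_, ⟨v, rfl⟩, rfl⟩; exact ⟨v, hMN v⟩
      · rintro ⟨v, rfl⟩; exact ⟨N v, ⟨v, rfl⟩, (hMN v).symm⟩
    rw [hmap, hrM] at e
    rw [hK2c, hK32] at hP2
    have hc : Nat.card (S.perp K1 ⊓ K1 : AddSubgroup V) = 2 := by
      have h4' : Nat.card (S.perp K2) = 4 := by omega
      rw [h4'] at e; omega
    obtain ⟨a, b, hab, huniv⟩ := Nat.card_eq_two_iff.1 hc
    obtain ⟨⟨e₀, he₀⟩, hne0⟩ : ∃ x : ↥(S.perp K1 ⊓ K1), x ≠ 0 := by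
      by_cases h : a = 0
      · exact ⟨b, fun hb => hab (h.trans hb.symm)⟩
      · exact ⟨a, h⟩
    refine ⟨e₀, fun h => hne0 (Subtype.ext h), fun v => ?_⟩
    rw [hUeq]
    constructor
    · intro hv
      have := Nat.card_eq_two_iff' (0 : ↥(S.perp K1 ⊓ K1))
      obtain ⟨c, -, hcu⟩ := this.1 hc
      by_contra hv'
      push Not at hv'
      exact hv'.2 (congrArg Subtype.val
        ((hcu ⟨v, hv.2, hv.1⟩ fun h => hv'.1 (congrArg Subtype.val h)).trans (hcu ⟨e₀, he₀⟩ hne0).symm))
    · rintro (rfl | rfl)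
      · exact ⟨zero_mem _, zero_mem _⟩
      · exact ⟨he₀.2, he₀.1⟩
  · -- a transvection as square
    exfalso
    rw [hK2c, hkK] at hP2
    have hP2' : Nat.card (S.perp K2) = 2 := by omega
    obtain ⟨v, hv⟩ : ∃ v, v ∉ K2 := ⟨v0, fun h => hv0 h⟩
    set w := M v with hw
    have hw0 : w ≠ 0 := fun h => hv (by rw [← hk2]; exact h)
    have huniq : ∀ u ∈ S.perp K2, u = 0 ∨ u = w := by
      intro u hu
      obtain ⟨c, -, hcu⟩ := (Nat.card_eq_two_iff' (0 : ↥(S.perp K2))).1 hP2'
      by_contra hc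
      push Not at hc
      exact hc.2 (congrArg Subtype.val ((hcu ⟨u, hu⟩ fun h => hc.1 (congrArg Subtype.val h)).trans
        (hcu ⟨w, hrM ▸ ⟨v, rfl⟩⟩ fun h => hw0 (congrArg Subtype.val h)).symm))
    have hNw : N w = 0 := by
      have hin : N w ∈ S.perp K2 := hrM ▸ ⟨N v, by rw [hMN, hw, hMN]⟩
      refine (huniq _ hin).resolve_right fun h => hw0 ?_
      have := hN4 v
      rw [← hMN v, ← hw, h, h] at this
      exact this
    have hNv : N v ∈ K2 := (hmem2 _).2 (by rw [← hMN v, ← hw, hNw])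
    have hβ := isom_β hg (N v) v
    have e1 : g (N v) = N v + w := by
      have : g (N v) + N v = w := by rw [hw, hMN]; rfl
      rw [← this, show N v + (g (N v) + N v) = g (N v) + (N v + N v) by abel, S.self, add_zero]
    have e2 : g v = v + N v := by
      rw [hN, dif_apply, show v + (g v + v) = g v + (v + v) by abel, S.self, add_zero]
    rw [e1, e2, S.β_add, S.β_add', S.β_add', S.β_self] at hβ
    have hwNv : S.β w (N v) = 0 := (hrM ▸ ⟨v, rfl⟩ : w ∈ S.perp K2) (N v) hNv
    have hwv : S.β w v = 0 := by linear_combination hβ - hwNv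
    refine hw0 (S.nondeg w fun u => ?_)
    by_cases hu : u ∈ K2
    · exact (hrM ▸ ⟨v, rfl⟩ : w ∈ S.perp K2) u hu
    · have hidx : K2.index = 2 := by
        have := K2.card_mul_index
        rw [hK2c, hkK, S.card] at this; omega
      have : u + v ∈ K2 := by
        rw [AddSubgroup.add_mem_iff_of_index_two hidx]; exact iff_of_false hu hv
      have h3 := (hrM ▸ ⟨v, rfl⟩ : w ∈ S.perp K2) (u + v) this
      rw [S.β_add', hwv, add_zero] at h3
      exact h3
  · exfalso
    rw [hkK] at hK2c
    have : K2 = ⊤ := AddSubgroup.eq_top_of_le_card _ (by rw [S.card, hK2c]; norm_num)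
    exact hv0 (show v0 ∈ K2 by rw [this]; trivial)

end Space

end Cfsg.Agent.CoTwoType.CaseR
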