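import Cfsg.Agent.Lib.CoTwoType.CaseR.Local
import Cfsg.Agent.Lib.LargeExtraspecial.Pair

/-
Elements fixed up to the centre, preimages and lifts (helper33).

* `sq_fix`, `comm_fix` : squares and commutators fix an element fixed up to `z`
* `Setup.data`, `Setup.pre`, `Setup.card_fix_le`, `Setup.actHom`, `Setup.exists_fix_lift`
-/

set_option autoImplicit false
set_option linter.style.haveILetI false

namespace Cfsg.Agent.CoTwoType

open Cfsg.Agent.Multiplier.Sp6 CaseR
open scoped commutatorElement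

universe u

variable {G : Type u} [Group G] {z : G}

theorem conj_id_iff {c x : G} : c * x * c⁻¹ = x ↔ Commute c x :=
  mul_inv_eq_iff_eq_mul

section
variable {x : G} (hxz : Commute x z) (hzz : z * z = 1)
  (hfix : ∀ c, Commute c z → c * x * c⁻¹ = x ∨ c * x * c⁻¹ = x * z)

include hxz hzz hfix

theorem sq_fix {c : G} (hc : Commute c z) : Commute (c * c) x := by
  refine conj_id_iff.1 ?_
  have e : c * c * x * (c * c)⁻¹ = c * (c * x * c⁻¹) * c⁻¹ := by group
  have hzc : c * z * c⁻¹ = z := conj_id_iff.2 hc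
  rcases hfix c hc with h | h <;> rw [e, h]
  · exact h
  · rw [← conj_mul, h, hzc, mul_assoc, hzz, mul_one]

theorem comm_fix {c d : G} (hc : Commute c z) (hd : Commute d z) : Commute (c * d * c⁻¹ * d⁻¹) x := by
  have e : c * d * c⁻¹ * d⁻¹ = c * c * (c⁻¹ * d * (c⁻¹ * d)) * (d⁻¹ * d⁻¹) := by group
  rw [e]
  exact ((sq_fix hxz hzz hfix hc).mul_left (sq_fix hxz hzz hfix (hc.inv_left.mul_left hd))).mul_left
    (sq_fix hxz hzz hfix hd.inv_left)

end

namespace Setup

variable (S : Setup z)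

include S

theorem data : LargeExtraspecial.Data S.Q z where
  z_mem := S.z_mem
  z_ne := S.z_ne
  z_sq := S.zz
  z_central q hq := S.z_comm hq
  cent x hx := by
    have hc : Commute x z := (hx z S.z_mem).symm
    have hxQ : x ∈ S.Q := S.self x hc fun q hq => (hx q hq).symm
    exact S.centre x hxQ fun q hq => (hx q hq).symm
  comm a ha b hb := by
    rcases S.comm a ha b hb with h | h
    · left; exact commutatorElement_eq_one_iff_mul_comm.2 h
    · right
      rw [commutatorElement_def, h, mul_assoc b a z, S.z_comm ha, ← mul_assoc, S.z_comm hb]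
      group
  norm c hc q hq := S.conj_mem c hc q hq

theorem mul_z_mem {K : Subgroup G} (hzK : z ∈ K) {a b : G} (hb : b ∈ K) (h : a = b ∨ a = b * z) : a ∈ K := by
  rcases h with rfl | rfl
  exacts [hb, mul_mem hb hzK]

/-- The preimage of a set of vectors. -/
noncomputable def pre (A : AddSubgroup S.Vz) : Subgroup G where
  carrier := {q | q ∈ S.Q ∧ S.vc q ∈ A}
  one_mem' := ⟨one_mem _, by rw [S.vc_one]; exact zero_mem _⟩
  mul_mem' {a b} ha hb := ⟨mul_mem ha.1 hb.1, by rw [S.vc_mul ha.1 hb.1]; exact add_mem ha.2 hb.2⟩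
  inv_mem' {a} ha := ⟨inv_mem ha.1, by
    have h : S.vc a⁻¹ = S.vc a := by
      refine (S.vc_eq (inv_mem ha.1) ha.1).2 ?_
      rcases S.sq a ha.1 with h | h
      · exact Or.inl (inv_eq_of_mul_eq_one_right h)
      · right
        refine inv_eq_of_mul_eq_one_right ?_
        rw [← mul_assoc, h, S.zz]
    rw [h]; exact ha.2⟩

theorem mem_pre {A : AddSubgroup S.Vz} {q : G} : q ∈ S.pre A ↔ q ∈ S.Q ∧ S.vc q ∈ A := Iff.rfl

theorem z_mem_pre (A : AddSubgroup S.Vz) : z ∈ S.pre A := ⟨S.z_mem, by rw [S.vc_z]; exact zero_mem _⟩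

theorem card_pre (A : AddSubgroup S.Vz) : Nat.card (S.pre A) = 2 * Nat.card A := by
  rw [S.card_img (K := S.pre A) (fun _ h => h.1) (S.z_mem_pre A)]
  congr 1
  refine Nat.card_congr (Equiv.subtypeEquivRight fun v => ⟨fun ⟨k, hk, _, e⟩ => e ▸ hk.2, fun hv => ?_⟩)
  obtain ⟨q, hq, rfl⟩ := S.vc_surj v
  exact ⟨q, ⟨hq, hv⟩, hq, rfl⟩

theorem z_mem_cent {a : G} (haz : Commute a z) : z ∈ S.Q ⊓ Subgroup.centralizer ({a} : Set G) :=
  ⟨S.z_mem, mem_cent_iff.2 haz.symm⟩

/-- The fixed space of an involution against its centraliser in the core. -/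
theorem card_fix_le [Finite G] {a : G} (haz : Commute a z) :
    Nat.card (S.space.fix (S.act_isom haz)) ≤
      2 * Nat.card (S.img (S.Q ⊓ Subgroup.centralizer ({a} : Set G))) := by
  have h := card_le_two_inf (S.pre (S.space.fix (S.act_isom haz))) a (a * z) fun q hq => by
    have h1 : S.act a (S.vc q) = S.vc q := hq.2
    rw [S.act_vc haz hq.1, S.vc_eq (S.conj_mem a haz q hq.1) hq.1] at h1
    rcases h1 with e | e
    · exact Or.inl (conj_id_iff.2 (conj_id_iff.1 e).symm)
    · right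
      have e1 : a * q = q * z * a := mul_inv_eq_iff_eq_mul.1 e
      refine mul_inv_eq_iff_eq_mul.2 ?_
      calc q * a = q * z * a * z := by
            rw [mul_assoc (q * z) a z, haz.eq, mul_assoc q z, ← mul_assoc z z a, S.zz, one_mul]
        _ = a * q * z := by rw [e1]
        _ = a * z * q := by rw [mul_assoc, S.z_comm hq.1, mul_assoc]
  rw [S.card_pre] at h
  have h2 : Nat.card (S.pre (S.space.fix (S.act_isom haz)) ⊓ Subgroup.centralizer ({a} : Set G) : Subgroup G) ≤
      Nat.card (S.Q ⊓ Subgroup.centralizer ({a} : Set G) : Subgroup G) :=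
    Subgroup.card_le_of_le fun q hq => ⟨hq.1.1, hq.2⟩
  rw [S.card_img inf_le_left (S.z_mem_cent haz)] at h2
  omega

/-- The action as a homomorphism on a subgroup of the centraliser. -/
noncomputable def actHom {K : Subgroup G} (hK : ∀ k ∈ K, Commute k z) : K →* Equiv.Perm S.Vz where
  toFun k := S.act k
  map_one' := S.act_one
  map_mul' k l := S.act_mul (hK k k.2) (hK l l.2)

theorem actHom_apply {K : Subgroup G} (hK : ∀ k ∈ K, Commute k z) (k : K) : S.actHom hK k = S.act k := rfl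

theorem mem_ker_actHom {K : Subgroup G} (hK : ∀ k ∈ K, Commute k z) (k : K) :
    k ∈ (S.actHom hK).ker ↔ (k : G) ∈ S.Q := S.act_eq_one (hK k k.2)

theorem card_image {K : Subgroup G} (hK : ∀ k ∈ K, Commute k z) :
    Nat.card (S.actHom hK).range * Nat.card (K ⊓ S.Q : Subgroup G) = Nat.card K := by
  have h := (S.actHom hK).ker.card_mul_index
  rw [Subgroup.index_ker] at h
  rw [← h, mul_comm]
  congr 1
  exact Nat.card_congr ⟨fun k => ⟨⟨k.1, k.2.1⟩, (S.mem_ker_actHom hK _).2 k.2.2⟩,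
    fun k => ⟨k.1.1, k.1.2, (S.mem_ker_actHom hK _).1 k.2⟩, fun _ => rfl, fun _ => rfl⟩

/-- Lifts of the stabiliser of an involution in the core fix it. -/
theorem exists_fix_lift {a : G} (haQ : a ∈ S.Q) (ha1 : a ≠ 1) (haz : a ≠ z) {h : Equiv.Perm S.Vz}
    (hh : h ∈ S.grp) (hfa : h (S.vc a) = S.vc a) : ∃ c, Commute c z ∧ S.act c = h ∧ Commute c a := by
  obtain ⟨c, hc, rfl⟩ := S.mem_grp hh
  rw [S.act_vc hc haQ, S.vc_eq (S.conj_mem c hc a haQ) haQ] at hfa
  rcases hfa with e | e
  · exact ⟨c, hc, rfl, conj_id_iff.1 e⟩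
  · obtain ⟨q, hq, hqa⟩ := S.data.exists_conj_eq haQ ha1 haz
    refine ⟨q * c, (S.le_cent q hq).mul_left hc, ?_, conj_id_iff.1 ?_⟩
    · rw [S.act_mul (S.le_cent q hq) hc, (S.act_eq_one (S.le_cent q hq)).2 hq, one_mul]
    · calc q * c * a * (q * c)⁻¹ = q * (c * a * c⁻¹) * q⁻¹ := by group
        _ = q * (a * z) * q⁻¹ := by rw [e]
        _ = q * a * q⁻¹ * (q * z * q⁻¹) := by group
        _ = a := by rw [hqa, conj_id_iff.2 (S.le_cent q hq), mul_assoc, S.zz, mul_one]

end Setup

end Cfsg.Agent.CoTwoType
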