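import Cfsg.Agent.Lib.CoTwoType.CaseR.Surj

/-
Transvections of a copy of Sp6(2) fixing a vector (helper33).

* `Fixing.q_eq_one` : the fixed vector is nonsingular
* `Fixing.pair_mem` : each product of the reflection at the fixed vector with one orthogonal to it lies in the group
-/

set_option autoImplicit false
set_option linter.style.haveILetI false

namespace Cfsg.Agent.CoTwoType.CaseR.Fixing

open Space

variable {V : Type*} [AddCommGroup V] {S : Space V} {x : V} (F : Fixing S x)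

include F

theorem zsmul_parity (n : ℤ) (v : V) : n • v = if n % 2 = 0 then 0 else v := by
  have h2 : ((2 : ℤ) • v) = 0 := by rw [two_zsmul, S.self]
  conv_lhs => rw [← Int.emod_add_mul_ediv n 2, add_zsmul, mul_comm, mul_zsmul, h2, smul_zero, add_zero]
  rcases Int.emod_two_eq_zero_or_one n with e | e <;> simp [e]

theorem nsmul_parity (n : ℕ) (v : V) : n • v = if n % 2 = 0 then 0 else v := by
  have h2 : ((2 : ℕ) • v) = 0 := by rw [two_nsmul, S.self]
  conv_lhs => rw [← Nat.mod_add_div n 2, add_nsmul, mul_nsmul, h2, smul_zero, add_zero]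
  rcases Nat.mod_two_eq_zero_or_one n with e | e <;> simp [e]

/-- The fixed vector is nonsingular. -/
theorem q_eq_one : S.q x = 1 := by
  haveI := S.fin
  by_contra hq
  replace hq : S.q x = 0 := (zmod2 _).resolve_right hq
  obtain ⟨v, hv, hvne⟩ := S.exists_notMem (S.perp1 x) [0, x] (by rw [S.card_perp1 F.ne]; norm_num)
  have h64 := S.half (S.perp1 x) v
  rw [S.card_perp1 F.ne] at h64
  obtain ⟨u, hu, hune⟩ := S.exists_notMem (S.perp1 x ⊓ S.perp1 v) [0, x, v, v + x] (by
    simp only [List.length_cons, List.length_nil]; omega)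
  simp only [List.mem_cons, List.not_mem_nil, or_false, not_or] at hvne hune
  have hux : S.β u x = 0 := hu.1
  have huv : S.β u v = 0 := hu.2
  obtain ⟨w, hwx, hwq, hw0, hwne⟩ : ∃ w, S.β w x = 0 ∧ S.q w = 0 ∧ w ≠ 0 ∧ w ≠ x := by
    rcases zmod2 (S.q v) with e | e
    · exact ⟨v, hv, e, hvne.1, hvne.2⟩
    rcases zmod2 (S.q u) with e' | e'
    · exact ⟨u, hux, e', hune.1, hune.2.1⟩
    refine ⟨v + u, by rw [S.β_add, (hv : S.β v x = 0), hux, add_zero],
      by rw [S.q_add, e, e', S.β_comm, huv]; rfl, fun h => hune.2.2.1 ?_, fun h => hune.2.2.2 ?_⟩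
    · rw [add_eq_zero_iff_eq_neg, S.neg] at h; exact h.symm
    · rw [← h, show v + (v + u) = u + (v + v) by abel, S.self, add_zero]
  obtain ⟨h, hh, ht⟩ := F.exists_trans hwx
  obtain ⟨y, hy, hyw⟩ : ∃ y, S.β y x = 0 ∧ S.β y w = 1 := by
    by_contra hc
    push Not at hc
    rcases S.perp_perp1 F.ne (v := w) (fun y hy => by
      rw [S.β_comm]; exact (zmod2 _).resolve_right (hc y hy)) with e | e
    exacts [hw0 e, hwne e]
  have hs := isom_q (F.le hh) y
  have hwx' := hwx
  rcases ht y hy with e | e <;> rw [e, hyw, sm_one] at hs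
  · rw [S.q_add, hwq, hyw] at hs; simp at hs
  · rw [S.q_add_x (by rw [S.β_add, hy, hwx, add_zero]), hq, add_zero, S.q_add, hwq, hyw] at hs
    simp at hs

theorem mem_trivial {g : Equiv.Perm V} (hg : g ∈ S.isom) (hgx : g x = x)
    (hs : ∀ u, S.β u x = 0 → g u = u ∨ g u = u + x) : g = 1 ∨ g = S.refl x := by
  have hfix : ∀ u, S.β u x = 0 → g u = u := fun u hu => (hs u hu).resolve_right fun e => by
    have := isom_q hg u
    rw [e, S.q_add_x hu, F.q_eq_one] at this
    simp at this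
  obtain ⟨v0, hv0⟩ := S.exists_eq_one F.ne
  rw [S.β_comm] at hv0
  have hd : ∀ u, S.β u x = 0 → S.β (g v0 + v0) u = 0 := fun u hu => by
    have h := isom_β hg v0 u
    rw [hfix u hu] at h
    rw [S.β_add, h]
    generalize S.β v0 u = b; revert b; decide
  have hdec : ∀ g' : Equiv.Perm V, g' ∈ S.isom → (∀ u, S.β u x = 0 → g' u = u) → g' v0 = g v0 → g' = g := by
    intro g' hg' hf he
    refine Equiv.ext fun v => ?_
    rcases zmod2 (S.β v x) with e | e
    · rw [hf v e, hfix v e]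
    · have hv' : S.β (v + v0) x = 0 := by rw [S.β_add, e, hv0]; rfl
      rw [show v = v + v0 + v0 by rw [S.add_self_right], isom_add hg, isom_add hg', hf _ hv', hfix _ hv', he]
  rcases S.perp_perp1 F.ne hd with e | e
  · left
    refine (hdec 1 (one_mem _) (fun _ _ => rfl) ?_).symm
    show v0 = g v0
    rw [add_eq_zero_iff_eq_neg, S.neg] at e
    exact e.symm
  · right
    refine (hdec (S.refl x) (S.refl_mem F.q_eq_one) (fun u hu => S.refl_fix hu) ?_).symm
    rw [S.refl_apply, hv0, sm_one]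
    conv_lhs => rw [← e]
    rw [show v0 + (g v0 + v0) = g v0 + (v0 + v0) by abel, S.self, add_zero]

theorem refl_x_notMem : S.refl x ∉ F.H := fun h => by
  have h1 := F.kernel_trivial h fun u hu => Or.inl (S.refl_fix hu)
  obtain ⟨v0, hv0⟩ := S.exists_eq_one F.ne
  rw [S.β_comm] at hv0
  have h2 := DFunLike.congr_fun h1 v0
  rw [S.refl_apply, hv0, sm_one] at h2
  exact F.ne (add_eq_left.1 h2)

theorem refl_or_pair {w : V} (hw : S.β w x = 0) (hq : S.q w = 1) :
    S.refl w ∈ F.H ∨ S.refl x * S.refl w ∈ F.H := by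
  obtain ⟨h, hh, ht⟩ := F.exists_trans hw
  have hk : S.refl w * h ∈ S.isom := mul_mem (S.refl_mem hq) (F.le hh)
  have hxw : S.β x w = 0 := by rw [S.β_comm]; exact hw
  rcases F.mem_trivial hk (by rw [Equiv.Perm.mul_apply, F.fix h hh, S.refl_fix hxw]) (fun u hu => by
      simp only [Equiv.Perm.mul_apply]
      rcases ht u hu with e | e <;> rw [e]
      · left; exact S.rfun_rfun u
      · right
        rw [isom_add (S.refl_mem hq), S.refl_fix hxw]
        exact congrArg (· + x) (S.rfun_rfun u)) with e | e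
  · left
    have : h = S.refl w := by
      calc h = S.refl w * S.refl w * h := by rw [S.refl_self_mul, one_mul]
        _ = S.refl w := by rw [mul_assoc, e, mul_one]
    rwa [this] at hh
  · right
    have : h = S.refl x * S.refl w := by
      calc h = S.refl w * S.refl w * h := by rw [S.refl_self_mul, one_mul]
        _ = S.refl w * S.refl x := by rw [mul_assoc, e]
        _ = _ := (S.refl_comm hxw).symm
    rwa [this] at hh

theorem refl_step {w w' : V} (hw : S.β w x = 0) (hw' : S.β w' x = 0) (hq : S.q w = 1) (hq' : S.q w' = 1)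
    (h1 : S.β w w' = 1) (hmem : S.refl w ∈ F.H) : S.refl w' ∈ F.H := by
  have hq2 : S.q (w + w') = 1 := by rw [S.q_add, hq, hq', h1]; rfl
  have hx2 : S.β (w + w') x = 0 := by rw [S.β_add, hw, hw', add_zero]
  have he : S.refl (w + w') w = w' := by
    rw [S.refl_apply, S.β_add', S.β_self, zero_add, h1, sm_one, ← add_assoc, S.self, zero_add]
  obtain ⟨k, hk, hkw⟩ : ∃ k ∈ F.H, k w = w' := by
    rcases F.refl_or_pair hx2 hq2 with h | h
    · exact ⟨_, h, he⟩
    · exact ⟨_, h, by rw [Equiv.Perm.mul_apply, he, S.refl_fix hw']⟩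
  have := mul_mem (mul_mem hk hmem) (inv_mem hk)
  rwa [S.refl_conj (F.le hk), hkw] at this

theorem refl_all {w w' : V} (hw : S.β w x = 0) (hw' : S.β w' x = 0) (hq : S.q w = 1) (hq' : S.q w' = 1)
    (hwne : w ≠ x) (hwne' : w' ≠ x) (hmem : S.refl w ∈ F.H) : S.refl w' ∈ F.H := by
  by_cases heq : w = w'
  · exact heq ▸ hmem
  have hne0 : w ≠ 0 := fun h => by rw [h, S.q_zero] at hq; exact zero_ne_one hq
  have hne0' : w' ≠ 0 := fun h => by rw [h, S.q_zero] at hq'; exact zero_ne_one hq'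
  have ex : ∀ a, S.β a x = 0 → a ≠ 0 → a ≠ x → ∃ u, S.β u x = 0 ∧ S.β a u = 1 := fun a ha h0 hne => by
    by_contra hc
    push Not at hc
    rcases S.perp_perp1 F.ne (v := a) (fun u hu => (zmod2 _).resolve_right (hc u hu)) with e | e
    exacts [h0 e, hne e]
  obtain ⟨u1, hu1, e1⟩ := ex w hw hne0 hwne
  obtain ⟨u2, hu2, e2⟩ := ex w' hw' hne0' hwne'
  obtain ⟨u, hu, a1, a2⟩ : ∃ u, S.β u x = 0 ∧ S.β w u = 1 ∧ S.β w' u = 1 := by
    rcases zmod2 (S.β w' u1) with b1 | b1
    · rcases zmod2 (S.β w u2) with b2 | b2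
      · exact ⟨u1 + u2, by rw [S.β_add, hu1, hu2, add_zero], by rw [S.β_add', e1, b2, add_zero],
          by rw [S.β_add', e2, b1, zero_add]⟩
      · exact ⟨u2, hu2, b2, e2⟩
    · exact ⟨u1, hu1, e1, b1⟩
  obtain ⟨u', hu', hqu, a1', a2'⟩ : ∃ u', S.β u' x = 0 ∧ S.q u' = 1 ∧ S.β w u' = 1 ∧ S.β w' u' = 1 := by
    rcases zmod2 (S.q u) with e | e
    · refine ⟨u + x, by rw [S.β_add, hu, S.β_self, add_zero], by rw [S.q_add_x hu, e, F.q_eq_one, zero_add],
        by rw [S.β_add', a1, hw, add_zero], by rw [S.β_add', a2, hw', add_zero]⟩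
    · exact ⟨u, hu, e, a1, a2⟩
  exact F.refl_step hu' hw' hqu hq' (by rw [S.β_comm]; exact a2') (F.refl_step hw hu' hq hqu a1' hmem)

/-- The transvections of the quotient lift as products of two reflections. -/
theorem pair_mem {w : V} (hw : S.β w x = 0) (hq : S.q w = 1) (hne : w ≠ x) :
    S.refl x * S.refl w ∈ F.H := by
  haveI := S.fin
  refine (F.refl_or_pair hw hq).resolve_left fun hmem => ?_
  have hqx := F.q_eq_one
  -- seven pairwise orthogonal nonsingular vectors
  have adj : ∀ a, S.β a x = 0 → ∃ a', (a' = a ∨ a' = a + x) ∧ S.q a' = 0 := fun a ha => by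
    rcases zmod2 (S.q a) with e | e
    · exact ⟨a, Or.inl rfl, e⟩
    · exact ⟨a + x, Or.inr rfl, by rw [S.q_add_x ha, e, hqx]; rfl⟩
  obtain ⟨a0, ha0, han⟩ := S.exists_notMem (S.perp1 x) [0, x] (by rw [S.card_perp1 F.ne]; norm_num)
  obtain ⟨a, haeq, haq⟩ := adj a0 ha0
  have hxx := S.β_self x
  have hax : S.β a x = 0 := by
    rcases haeq with rfl | rfl
    · exact ha0
    · rw [S.β_add, (ha0 : S.β a0 x = 0), hxx, add_zero]
  have t1 := S.half (S.perp1 x) a
  rw [S.card_perp1 F.ne] at t1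
  obtain ⟨b0, hb0, hbn⟩ := S.exists_notMem (S.perp1 x ⊓ S.perp1 a) [0, x, a, a + x] (by
    simp only [List.length_cons, List.length_nil]; omega)
  obtain ⟨b, hbeq, hbq⟩ := adj b0 hb0.1
  have hbx : S.β b x = 0 := by
    rcases hbeq with rfl | rfl
    · exact hb0.1
    · rw [S.β_add, (hb0.1 : S.β b0 x = 0), hxx, add_zero]
  have hxa : S.β x a = 0 := by rw [S.β_comm]; exact hax
  have hba : S.β b a = 0 := by
    rcases hbeq with rfl | rfl
    · exact hb0.2
    · rw [S.β_add, (hb0.2 : S.β b0 a = 0), hxa, add_zero]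
  have t2 := S.half (S.perp1 x ⊓ S.perp1 a) b
  obtain ⟨c0, hc0, hcn⟩ := S.exists_notMem (S.perp1 x ⊓ S.perp1 a ⊓ S.perp1 b)
    [0, x, a, a + x, b, b + x, a + b, a + b + x] (by
      simp only [List.length_cons, List.length_nil]; omega)
  obtain ⟨c, hceq, hcq⟩ := adj c0 hc0.1.1
  have hxb : S.β x b = 0 := by rw [S.β_comm]; exact hbx
  have hcx : S.β c x = 0 := by
    rcases hceq with rfl | rfl
    · exact hc0.1.1
    · rw [S.β_add, (hc0.1.1 : S.β c0 x = 0), hxx, add_zero]
  have hca : S.β c a = 0 := by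
    rcases hceq with rfl | rfl
    · exact hc0.1.2
    · rw [S.β_add, (hc0.1.2 : S.β c0 a = 0), hxa, add_zero]
  have hcb : S.β c b = 0 := by
    rcases hceq with rfl | rfl
    · exact hc0.2
    · rw [S.β_add, (hc0.2 : S.β c0 b = 0), hxb, add_zero]
  have hab : S.β a b = 0 := by rw [S.β_comm]; exact hba
  have hac : S.β a c = 0 := by rw [S.β_comm]; exact hca
  have hbc : S.β b c = 0 := by rw [S.β_comm]; exact hcb
  have hxc : S.β x c = 0 := by rw [S.β_comm]; exact hcx
  simp only [List.mem_cons, List.not_mem_nil, or_false, not_or] at han hbn hcn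
  have hyn : ∀ y, y + x + x = y := fun y => S.add_self_right y x
  have hne' : a ≠ 0 ∧ b ≠ 0 ∧ c ≠ 0 ∧ a + b ≠ 0 ∧ a + c ≠ 0 ∧ b + c ≠ 0 ∧ a + b + c ≠ 0 := by
    have z : ∀ p q : V, p + q = 0 → q = p := fun p q h => by
      rw [add_eq_zero_iff_eq_neg, S.neg] at h; exact h.symm
    refine ⟨?_, ?_, ?_, fun h => ?_, fun h => ?_, fun h => ?_, fun h => ?_⟩
    · rintro rfl; rcases haeq with e | e
      · exact han.1 e.symm
      · exact han.2 (by rw [← hyn a0, ← e, zero_add])
    · rintro rfl; rcases hbeq with e | e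
      · exact hbn.1 e.symm
      · exact hbn.2.1 (by rw [← hyn b0, ← e, zero_add])
    · rintro rfl; rcases hceq with e | e
      · exact hcn.1 e.symm
      · exact hcn.2.1 (by rw [← hyn c0, ← e, zero_add])
    · rcases hbeq with e | e
      · exact hbn.2.2.1 (e.symm.trans (z _ _ h))
      · exact hbn.2.2.2 (by rw [← hyn b0, ← e, z _ _ h])
    · rcases hceq with e | e
      · exact hcn.2.2.1 (e.symm.trans (z _ _ h))
      · exact hcn.2.2.2.1 (by rw [← hyn c0, ← e, z _ _ h])
    · rcases hceq with e | e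
      · exact hcn.2.2.2.2.1 (e.symm.trans (z _ _ h))
      · exact hcn.2.2.2.2.2.1 (by rw [← hyn c0, ← e, z _ _ h])
    · rcases hceq with e | e
      · exact hcn.2.2.2.2.2.2.1 (e.symm.trans (z _ _ h))
      · exact hcn.2.2.2.2.2.2.2 (by rw [← hyn c0, ← e, z _ _ h])
  have hmem' : ∀ u, S.β u x = 0 → S.q u = 0 → u ≠ 0 → S.refl (u + x) ∈ F.H := fun u hu hqu hu0 =>
    F.refl_all hw (by rw [S.β_add, hu, hxx, add_zero]) hq (by rw [S.q_add_x hu, hqu, hqx, zero_add]) hne
      (fun h => hu0 (add_eq_right.1 h)) hmem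
  obtain ⟨na, nb, nc, nab, nac, nbc, nabc⟩ := hne'
  have hP := mul_mem (mul_mem (mul_mem (mul_mem (mul_mem (mul_mem (hmem' a hax haq na) (hmem' b hbx hbq nb))
    (hmem' c hcx hcq nc))
    (hmem' (a + b) (by rw [S.β_add, hax, hbx, add_zero]) (by rw [S.q_add, haq, hbq, hab]; rfl) nab))
    (hmem' (a + c) (by rw [S.β_add, hax, hcx, add_zero]) (by rw [S.q_add, haq, hcq, hac]; rfl) nac))
    (hmem' (b + c) (by rw [S.β_add, hbx, hcx, add_zero]) (by rw [S.q_add, hbq, hcq, hbc]; rfl) nbc))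
    (hmem' (a + b + c) (by rw [S.β_add, S.β_add, hax, hbx, hcx, add_zero, add_zero])
      (by rw [S.q_add, S.q_add, haq, hbq, hcq, hab, S.β_add, hac, hbc]; rfl) nabc)
  refine F.refl_x_notMem ?_
  convert hP using 1
  refine Equiv.ext fun v => ?_
  simp only [Equiv.Perm.mul_apply, S.refl_apply, S.β_add, S.β_add', S.β_sm, S.β_self, hab, hac, hbc,
    hba, hca, hcb, hax, hbx, hcx, hxa, hxb, hxc, add_zero, mul_zero]
  rcases zmod2 (S.β v a) with e1 | e1 <;> rcases zmod2 (S.β v b) with e2 | e2 <;>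
    rcases zmod2 (S.β v c) with e3 | e3 <;> rcases zmod2 (S.β v x) with e4 | e4 <;>
    simp [e1, e2, e3, e4, sm_zero', sm_one, show (1 : ZMod 2) + 1 = 0 from rfl] <;>
    (rw [← sub_eq_zero]; abel_nf; simp [F.zsmul_parity, F.nsmul_parity])

end Cfsg.Agent.CoTwoType.CaseR.Fixing
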